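import Cfsg.Agent.Mrg.Omega.IId.Big.Of
import Cfsg.Agent.Mrg.Omega.HT.Main
import Cfsg.Agent.Mrg.Omega.IId.Big.RedFr
import Cfsg.Agent.Mrg.Omega.IId.Big.Supply
import Cfsg.Agent.Mrg.Omega.NOne.LemmaT
import Cfsg.Agent.Mrg.Omega.IId.TwoK
import Cfsg.Agent.Mrg.Omega.IId.Big.SylB
import Cfsg.Agent.Mrg.Omega.IId.Big.RedOf
import Cfsg.Agent.Mrg.Omega.IId.BigFour.Entry
import Cfsg.Agent.Mrg.Omega.IId.M4.Entry

-- merged: Cfsg.Agent.Mrg.Omega.IId.Big.Syl.Inst
section

/-!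
# WrBig, `q = 2`, CASE 1: the instance `HTT` over `T = stab M i` (bb #18842 (a))

* `Sit.syl_fac` : `T` is Sylow in `N_G(V_i)`; `Sit.exists_bts` : the entry to `BTS`;
* `Ins M i R o` : `Sit` with the points `R` of `V_i` (`BTS`), `R o = line M i`, `V_j ≤ C(X_i)` for `j ≠ i`;
* `Ins.htt` : `HTT T (T ⊔ X_i) V_i R o`.
-/

set_option autoImplicit false
set_option linter.unusedSectionVars false

namespace Cfsg.Agent.Omega.IId.Big.Syl

open Subgroup Pointwise Cfsg Cfsg.Agent.ZN Cfsg.Agent.ZN.ChoiceBase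
open Cfsg.Agent.Omega.MinPar Cfsg.Agent.Omega.FFThm Cfsg.Agent.Omega.FrameMulti
open Cfsg.Agent.MinSimple.VModule (o2_isPGroup)
open Triangle (KK KK_conj KK_le_o2 mem_cent mem_KK mem_zpowers_iff_of_sq cent_conj o2_cent_conj)
open Supply
open Cfsg.Agent.Omega.BTwo (BT BTS WW QQ CenX pt)

universe u

local notation "cz" v:max => centralizer ({v} : Set _)
local notation "qz" v:max => ZN.o2 (centralizer ({v} : Set _))

section frame

variable {G : Type u} [Group G] [Finite G] {F : Type} [Field F] [Finite F] [CharP F 2] {S : Sylow 2 G}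
  {P : Subgroup G} {k : ℕ} {M : NatK F (S : Subgroup G) P (zl (S : Subgroup G) P) ⊥ k}

namespace Sit

variable {i : Fin k} (h : Sit M i)
include h

theorem T_V : stab M i ≤ normalizer (fac M i : Set G) := stab_normalizes M i

theorem V_T : fac M i ≤ stab M i :=
  ((fac_le M i).trans (h.par.isLoc.zl_le S h.c2)).trans ((MinSimple.VModule.zc_le _).trans
    (o2_le_stab' h.c2 h.par i))

theorem T_comm {v : G} (hv : v ∈ line M i) {t : G} (ht : t ∈ stab M i) : t * v = v * t :=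
  stab_comm_line M h.SP h.two hv ht

theorem T_cz {v : G} (hv : v ∈ line M i) : stab M i ≤ cz v := fun _ ht => mem_cent.2 (h.T_comm hv ht)

theorem odd' {v : G} (hv : v ∈ line M i) (hv1 : v ≠ 1) : ¬ 2 ∣ (stab M i).relIndex (cz v) := by
  rw [← h.norm_line hv hv1]; exact h.odd

/-- `O₂(C(v)) ≤ T` -/
theorem q_T {v : G} (hv : v ∈ line M i) (hv1 : v ≠ 1) : qz v ≤ stab M i := (o2_le_stab h.par h.cc h.two hv hv1).1

/-- an element of `V_i` fixed by `T` is in the line -/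
theorem eq_of_fixed {v x : G} (hv : v ∈ line M i) (hv1 : v ≠ 1) (hx : x ∈ fac M i)
    (hxT : ∀ t ∈ stab M i, t * x = x * t) : x = 1 ∨ x = v := by
  by_contra hcon
  push Not at hcon
  obtain ⟨g, hg, hgx⟩ := h.fr.move (line_le M i hv) hx hv1 hcon.1 (Ne.symm hcon.2)
  have h1 := hxT g (h.q_T hv hv1 (h.fr.KK_le_q (line_le M i hv) hv1 hg))
  rw [h1, mul_inv_cancel_right] at hgx
  exact hv1 (mul_eq_right.1 hgx.symm)

/-- **`T` is a Sylow 2-subgroup of `N_G(V_i)`.** -/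
theorem syl_fac : ¬ 2 ∣ (stab M i).relIndex (normalizer (fac M i : Set G)) := by
  have : Fact (Nat.Prime 2) := ⟨Nat.prime_two⟩
  obtain ⟨v, hv, hv1⟩ := exists_line M i
  obtain ⟨Q, hTQ, hQN, hQ2, hQs⟩ := Half.exists_sylow_le h.T2 (stab_normalizes M i)
  have hQT : Q = stab M i := by
    by_contra hne
    have hlt : stab M i < Q := lt_of_le_of_ne hTQ (Ne.symm hne)
    have hlt' := Lib.GoldschmidtFusion.lt_inf_normalizer hQ2 hlt
    refine hlt'.not_ge ?_
    have hle : Q ⊓ normalizer (stab M i : Set G) ≤ cz v := by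
      intro t ht
      have h1 : t * v * t⁻¹ ∈ fac M i := (mem_normalizer_iff.1 (hQN ht.1) _).1 (line_le M i hv)
      have h0 : ∀ s ∈ stab M i, s * (t * v * t⁻¹) = t * v * t⁻¹ * s := by
        intro s hs
        have h3 : t⁻¹ * s * t ∈ stab M i := by
          have := (mem_normalizer_iff.1 (inv_mem ht.2) s).1 hs
          rwa [inv_inv] at this
        have h4 := h.T_comm hv h3
        calc s * (t * v * t⁻¹) = t * ((t⁻¹ * s * t) * v) * t⁻¹ := by group
          _ = t * v * t⁻¹ * s := by rw [h4]; group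
      rcases h.eq_of_fixed hv hv1 h1 h0 with h2 | h2
      · exact (hv1 (by
          calc v = t⁻¹ * (t * v * t⁻¹) * t := by group
            _ = 1 := by rw [h2]; group)).elim
      · exact mem_cent.2 (comm_of_conj h2)
    -- a 2-subgroup of `C(v)` containing `T`
    have h5 : (Q ⊓ normalizer (stab M i : Set G) : Subgroup G) ≤ stab M i := by
      have h6 := SideOf.card_dvd_of (h.T_cz hv) (h.odd' hv hv1) (hQ2.to_le inf_le_left) hle
      exact (Subgroup.eq_of_le_of_card_ge hlt'.le (Nat.le_of_dvd Nat.card_pos h6)).ge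
    exact h5
  rwa [hQT] at hQs

theorem bOne : BigFour.BOne M i where
  c2T := h.c2
  par := h.par
  cc := h.cc
  QT := MinSimple.VModule.o2_le_of_sylow h.T2 h.odd

/-- **The entry to `BTS`.** -/
theorem exists_bts {c : G} (hc : c ∈ normalizer (line M i : Set G))
    (hne : ∃ v ∈ fac M i, ∃ w ∈ fac M i, v * (c * w * c⁻¹) ≠ c * w * c⁻¹ * v) :
    ∃ (N' : NatPair.NatMod F (fac M i)) (o : BTwo.Pt N'), BTS (fac M i) (pt N') ∧ pt N' o = line M i ∧
      ∀ j, j ≠ i → fac M j ≤ CenX (fac M i) (pt N') := by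
  obtain ⟨N', -, hl, b, hc⟩ := h.bOne.bts h.syl_fac hc hne
  exact ⟨N', ⟨N'.line ![1, 0], ![1, 0], FourSide.vec_ne, rfl⟩, b, hl, hc⟩

/-- **The swap**: `s ∈ N_S(T)`, `s ∉ T`, maps `V_i` to `V_j`, `j ≠ i`, and `N_S(V_j) = T`. -/
theorem exists_swap : ∃ j, j ≠ i ∧ stab M j = stab M i ∧ Sit M j := by
  have hfact : Fact (Nat.Prime 2) := ⟨Nat.prime_two⟩
  have hSP := h.SP
  have hk := h.k2
  have hcard := card_stab M hSP i
  have hlt : stab M i < (S : Subgroup G) := by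
    refine lt_of_le_of_ne (stab_le M i) fun e => ?_
    have h1 : Nat.card (stab M i) = k * Nat.card (stab M i) := by
      nth_rewrite 1 [e]
      exact hcard
    have h2 : 0 < Nat.card (stab M i) := Nat.card_pos
    nlinarith
  obtain ⟨s, ⟨hs, hsn⟩, hsT⟩ := SetLike.exists_of_lt (Lib.GoldschmidtFusion.lt_inf_normalizer S.isPGroup' hlt)
  have e1 := conj_stab M hSP hs (i := i)
  have e2 := conj_line M hSP hs i
  rw [cj_eq_of_mem_normalizer hsn] at e1
  refine ⟨sg M (hSP hs) i, fun h0 => hsT ⟨hs, (mem_normalizer_fac_iff M (hSP hs)).2 h0⟩, e1.symm, ?_⟩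
  refine { h with odd := ?_ }
  rw [← e1, ← e2, ← cj_normalizer]
  have h3 : stab M i ≤ normalizer (line M i : Set G) := stab_normalizes_line M hSP i
  have h4 := Half.card_mul_relIndex h3
  have h5 := Half.card_mul_relIndex (cj_mono s h3)
  rw [card_cj, card_cj, cj_eq_of_mem_normalizer hsn, ← h4] at h5
  rw [Nat.eq_of_mul_eq_mul_left Nat.card_pos h5]
  exact h.odd

/-- `line M i ≤ zc T` -/
theorem line_zc : line M i ≤ zc (stab M i) := by
  intro v hv
  exact ZN.mem_zc.2 ⟨h.V_T (line_le M i hv), fun t ht => h.T_comm hv ht, by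
    rw [pow_two]; exact h.fr.sq i v (line_le M i hv)⟩

omit h in
/-- the elements of `V_i ∩ V^i` -/
theorem eq_one_of_Vo (h : Fr (S : Subgroup G) (fac M)) {i : Fin k} {x : G} (hx : x ∈ fac M i) (hx' : x ∈ Vo (fac M) i) :
    x = 1 := by
  by_contra hx1
  obtain ⟨b, hb, hb1, hxb⟩ := h.exists_other (i := i) x
  obtain ⟨g, hg, e⟩ := h.move hb hx hb1 hx1 (Ne.symm hxb)
  rw [h.Vo_cent hb hb1 hx' (h.KK_le_q hb hb1 hg), mul_inv_cancel_right] at e
  exact hb1 (mul_eq_right.mp e.symm)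

omit h in
/-- `N_S(V_i)` normalises `V^i` -/
theorem T_Vo (h : Fr (S : Subgroup G) (fac M)) (i : Fin k) : stab M i ≤ normalizer (Vo (fac M) i : Set G) := by
  refine norm_of fun t ht x hx => ?_
  have h1 : Vo (fac M) i ≤ (Vo (fac M) i).comap (MulAut.conj t).toMonoidHom := by
    refine Vo_le fun j hj y hy => ?_
    obtain ⟨l, hl⟩ := h.perm t (stab_le M i ht) j
    have h2 : t * y * t⁻¹ ∈ fac M l := (hl y).1 hy
    have hli : l ≠ i := by
      rintro rfl
      by_cases hy1 : y = 1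
      · obtain ⟨y', hy', hy1', -⟩ := h.exists_other (i := j) y
        have h3 : t * y' * t⁻¹ ∈ fac M l := (hl y').1 hy'
        exact hy1' (h.disj hj hy' ((mem_normalizer_iff.1 (stab_normalizes M l ht) y').2 h3))
      · exact hy1 (h.disj hj hy ((mem_normalizer_iff.1 (stab_normalizes M l ht) y).2 h2))
    exact le_Vo hli h2
  exact h1 hx

/-- the components of an element of `Ω₁Z(T)` in `⟨V_l⟩` -/
theorem split_Vo {v z : G} (hv : v ∈ line M i) (hv1 : v ≠ 1) (hz : z ∈ ⨆ l, fac M l)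
    (hzT : ∀ t ∈ stab M i, t * z = z * t) : ∃ a ∈ line M i, ∃ b ∈ Vo (fac M) i, z = a * b := by
  obtain ⟨a, ha, b, hb, hab⟩ := exists_split h.fr i hz
  have h1 : ∀ t ∈ stab M i, t * a = a * t := by
    intro t ht
    have h2 : t * a * t⁻¹ ∈ fac M i := conj_mem h.T_V ht ha
    have h3 : t * b * t⁻¹ ∈ Vo (fac M) i := conj_mem (T_Vo h.fr i) ht hb
    have h4 : (t * a * t⁻¹) * (t * b * t⁻¹) = a * b := by
      calc (t * a * t⁻¹) * (t * b * t⁻¹) = t * (a * b) * t⁻¹ := by group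
        _ = a * b := by rw [← hab]; exact conj_of_comm (hzT t ht)
    have h5 : a⁻¹ * (t * a * t⁻¹) = b * (t * b * t⁻¹)⁻¹ := by
      rw [inv_mul_eq_iff_eq_mul, ← mul_assoc, ← h4, mul_inv_cancel_right]
    have h6 := eq_one_of_Vo h.fr (mul_mem (inv_mem ha) h2) (by rw [h5]; exact mul_mem hb (inv_mem h3))
    exact comm_of_conj (by
      calc t * a * t⁻¹ = a * (a⁻¹ * (t * a * t⁻¹)) := by group
        _ = a := by rw [h6, mul_one])
  refine ⟨a, ?_, b, hb, hab⟩
  rcases h.eq_of_fixed hv hv1 ha h1 with h2 | h2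
  · rw [h2]; exact one_mem _
  · rw [h2]; exact hv

/-- **The element `z`**: `1 ≠ z ∈ Ω₁Z(T)` in `V^i ∩ V^j`. -/
theorem exists_z {j : Fin k} (hij : j ≠ i) (hT : stab M j = stab M i) (h' : Sit M j) :
    ∃ z ∈ zc (stab M i), z ≠ 1 ∧ z ∈ Vo (fac M) i ∧ z ∈ Vo (fac M) j := by
  have hfact : Fact (Nat.Prime 2) := ⟨Nat.prime_two⟩
  obtain ⟨v, hv, hv1⟩ := exists_line M i
  obtain ⟨w, hw, hw1⟩ := exists_line M j
  have hSP := h.SP
  have hSne : (S : Subgroup G) ≠ ⊥ := by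
    intro h0
    have h1 := stab_le M i (h.V_T (line_le M i hv))
    rw [h0, mem_bot] at h1
    exact hv1 h1
  obtain ⟨z₀, hz₀, hz₀1⟩ := (Subgroup.bot_or_exists_ne_one _).resolve_left
    (zc_ne_bot S.isPGroup' hSne)
  have hz₀c := ZN.mem_zc.1 hz₀
  have hTS := stab_le M i
  have hz₀V : z₀ ∈ ⨆ l, fac M l := h.fr.zS hz₀
  have hz₀T : ∀ t ∈ stab M i, t * z₀ = z₀ * t := fun t ht => hz₀c.2.1 t (hTS ht)
  obtain ⟨a, ha, b, hb, hab⟩ := h.split_Vo hv hv1 hz₀V hz₀T
  have hba : b = a⁻¹ * z₀ := by rw [hab]; group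
  have hVoV : ∀ l, Vo (fac M) l ≤ ⨆ l, fac M l := fun l => Vo_le fun m _ => le_iSup (fac M) m
  have hbT : ∀ t ∈ stab M i, t * b = b * t := fun t ht => by
    have h1 := h.T_comm ha ht
    have h2 : t * a⁻¹ = a⁻¹ * t := by
      rw [← mul_inv_eq_iff_eq_mul]
      have : t * a⁻¹ * t⁻¹ = (t * a * t⁻¹)⁻¹ := by group
      rw [this, conj_of_comm h1]
    rw [hba]
    calc t * (a⁻¹ * z₀) = (t * a⁻¹) * z₀ := by group
      _ = a⁻¹ * (t * z₀) := by rw [h2]; group
      _ = a⁻¹ * z₀ * t := by rw [hz₀T t ht]; group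
  obtain ⟨a', ha', b', hb', hab'⟩ := h'.split_Vo hw hw1 (hVoV i hb) (fun t ht => hbT t (hT ▸ ht))
  have hba' : b' = a'⁻¹ * b := by rw [hab']; group
  have hb'i : b' ∈ Vo (fac M) i := by
    rw [hba']; exact mul_mem (inv_mem (le_Vo (V := fac M) hij (line_le M j ha'))) hb
  have hb'T : ∀ t ∈ stab M i, t * b' = b' * t := fun t ht => by
    have h1 := h'.T_comm ha' (hT.symm ▸ ht : t ∈ stab M j)
    have h2 : t * a'⁻¹ = a'⁻¹ * t := by
      rw [← mul_inv_eq_iff_eq_mul]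
      have : t * a'⁻¹ * t⁻¹ = (t * a' * t⁻¹)⁻¹ := by group
      rw [this, conj_of_comm h1]
    rw [hba']
    calc t * (a'⁻¹ * b) = (t * a'⁻¹) * b := by group
      _ = a'⁻¹ * (t * b) := by rw [h2]; group
      _ = a'⁻¹ * b * t := by rw [hbT t ht]; group
  have hVT : (⨆ l, fac M l) ≤ stab M i := by
    refine iSup_le fun l => ((fac_le M l).trans (h.par.isLoc.zl_le S h.c2)).trans
      ((MinSimple.VModule.zc_le _).trans (o2_le_stab' h.c2 h.par i))
  refine ⟨b', ZN.mem_zc.2 ⟨hVT (hVoV i hb'i), hb'T, by rw [pow_two]; exact h.fr.Vo_sq hb'i⟩, ?_, hb'i, hb'⟩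
  intro hb1
  -- `z₀ ∈ V_i V_j`
  apply hz₀1
  have hk := h.k2
  obtain ⟨l, hli, hlj⟩ : ∃ l : Fin k, l ≠ i ∧ l ≠ j := by
    by_contra hcon
    push Not at hcon
    have h1 : (Finset.univ : Finset (Fin k)) ⊆ {i, j} := by
      intro l _
      rw [Finset.mem_insert, Finset.mem_singleton]
      by_cases hl : l = i
      · exact Or.inl hl
      · exact Or.inr (hcon l hl)
    have h2 := (Finset.card_le_card h1).trans Finset.card_le_two
    rw [Finset.card_univ, Fintype.card_fin] at h2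
    omega
  refine eq_one_of_all h.par h.fr (h.par.isLoc.zl_le S h.c2
    ((iSup_le fun l => fac_le M l : (⨆ l, fac M l) ≤ _) hz₀V)) fun m u hu hu1 g hg => ?_
  obtain ⟨s, hs, hsm⟩ := exists_trans M hSP l m
  have hu' : s⁻¹ * u * s ∈ fac M l := by
    rw [← hsm] at hu
    exact mem_cj.1 hu
  have hu1' : s⁻¹ * u * s ≠ 1 := fun h0 => hu1 (by
    calc u = s * (s⁻¹ * u * s) * s⁻¹ := by group
      _ = 1 := by rw [h0]; group)
  have hg' : s⁻¹ * g * s ∈ KK (s⁻¹ * u * s) := by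
    have := KK_conj (h := s⁻¹) hg
    rwa [inv_inv] at this
  have hgq := h.fr.KK_le_q hu' hu1' hg'
  have h1 : s⁻¹ * g * s * a = a * (s⁻¹ * g * s) :=
    h.fr.Qc l i (Ne.symm hli) _ hu' hu1' _ hgq a (line_le M i ha)
  have h2 : s⁻¹ * g * s * a' = a' * (s⁻¹ * g * s) :=
    h.fr.Qc l j (Ne.symm hlj) _ hu' hu1' _ hgq a' (line_le M j ha')
  have h3 : z₀ = a * a' := by rw [hab, hab', hb1, mul_one]
  have h4 : s⁻¹ * g * s * z₀ = z₀ * (s⁻¹ * g * s) := by
    rw [h3]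
    calc s⁻¹ * g * s * (a * a') = (s⁻¹ * g * s * a) * a' := by group
      _ = a * (s⁻¹ * g * s * a') := by rw [h1]; group
      _ = a * a' * (s⁻¹ * g * s) := by rw [h2]; group
  have h5 := hz₀c.2.1 s hs
  have h6 : s⁻¹ * z₀ = z₀ * s⁻¹ := by rw [inv_mul_eq_iff_eq_mul, ← mul_assoc, h5, mul_inv_cancel_right]
  calc g * z₀ = s * (s⁻¹ * g * s) * (s⁻¹ * z₀) := by group
    _ = s * (s⁻¹ * g * s) * (z₀ * s⁻¹) := by rw [h6]
    _ = s * (s⁻¹ * g * s * z₀) * s⁻¹ := by group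
    _ = s * (z₀ * (s⁻¹ * g * s)) * s⁻¹ := by rw [h4]
    _ = (s * z₀) * (s⁻¹ * g) := by group
    _ = z₀ * g := by rw [h5]; group

/-- **(zt)** : `a ∈ T` moves `b ∈ V_i` by `v` and fixes `Ω₁Z(C_T(V_i))` modulo `v`. -/
theorem zt {v : G} (hv : v ∈ line M i) (hv1 : v ≠ 1) : ∃ a ∈ stab M i, ∃ b ∈ fac M i, a * b * a⁻¹ = b * v ∧
    ∀ c ∈ stab M i, c * c = 1 → (∀ t ∈ stab M i, t ∈ centralizer (fac M i : Set G) → c * t = t * c) →
      a * c * a⁻¹ = c ∨ a * c * a⁻¹ = c * v := by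
  have hvi := line_le M i hv
  obtain ⟨b, hb, hb1, hvb⟩ := h.fr.exists_other (i := i) v
  obtain ⟨a, ha, hab⟩ := h.fr.move hvi hb hv1 hb1 hvb
  refine ⟨a, h.q_T hv hv1 (h.fr.KK_le_q hvi hv1 ha), b, hb, by rw [hab, h.fr.comm i i v hvi b hb], ?_⟩
  intro c hc hc2 hcc
  set Ts := stab M i ⊓ centralizer (fac M i : Set G) with hTs
  have hPTs : o2 P ≤ Ts := by
    refine le_inf (o2_le_stab' h.c2 h.par i) fun x hx => mem_centralizer_iff.2 fun u hu => ?_
    exact ((ZN.mem_zc.1 (h.par.isLoc.zl_le S h.c2 (fac_le M i hu))).2.1 x hx).symm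
  have hVTs : fac M i ≤ Ts := le_inf h.V_T fun x hx => mem_centralizer_iff.2 fun u hu => h.fr.comm i i u hu x hx
  have hcV : c ∈ centralizer (fac M i : Set G) :=
    mem_centralizer_iff.2 fun u hu => (hcc u (hVTs hu).1 (hVTs hu).2).symm
  have hcz : c ∈ zc (o2 P) := zc_le_zz h.c2 h.par hPTs (inf_le_left.trans h.TP)
    (ZN.mem_zc.2 ⟨⟨hc, hcV⟩, fun t ht => (hcc t ht.1 ht.2).symm, by rw [pow_two]; exact hc2⟩)
  have hcq := h.zz_q hvi hv1 hcz
  rcases h.fr.KK_act hvi ha hcq with h1 | h1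
  · exact Or.inl h1
  · right
    rw [h1]
    exact (mem_cent.1 ((o2_le _) hcq)).symm

omit h in
/-- `⟨KK v : v ∈ V_i#⟩ ≤ N(V_i)` -/
theorem XX_V (h : Fr (S : Subgroup G) (fac M)) (i : Fin k) : XX (fac M) i ≤ normalizer (fac M i : Set G) := by
  refine XX_le fun v hv hv1 => norm_of fun g hg x hx => ?_
  rcases h.KK_act hv hg (h.VQ i i v hv hv1 hx) with h1 | h1
  · rw [h1]; exact hx
  · rw [h1]; exact mul_mem hv hx

omit h in
/-- `⟨KK v : v ∈ V_i#⟩` is transitive on `V_i#` -/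
theorem XX_trans (h : Fr (S : Subgroup G) (fac M)) {i : Fin k} {v w : G} (hv : v ∈ fac M i) (hw : w ∈ fac M i)
    (hv1 : v ≠ 1) (hw1 : w ≠ 1) : ∃ d ∈ XX (fac M) i, d * v * d⁻¹ = w := by
  by_cases hvw : v = w
  · exact ⟨1, one_mem _, by rw [hvw]; group⟩
  have h2 := h.sq i v hv
  have h1 : w * v ≠ 1 := fun h0 => hvw (by
    have : v = w⁻¹ := eq_inv_of_mul_eq_one_right h0
    rw [this]
    exact inv_eq_of_mul_eq_one_left (h.sq i w hw))
  have h3 : w * v ≠ v := fun h0 => hw1 (mul_eq_right.1 h0)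
  obtain ⟨g, hg, e⟩ := h.move (mul_mem hw hv) hv h1 hv1 h3
  refine ⟨g, KK_le_XX (mul_mem hw hv) h1 hg, ?_⟩
  rw [e, mul_assoc, h2, mul_one]

omit h in
/-- `⟨KK v : v ∈ V_i#⟩` centralises `V^i` -/
theorem XX_Vo (h : Fr (S : Subgroup G) (fac M)) {i : Fin k} {z : G} (hz : z ∈ Vo (fac M) i) :
    XX (fac M) i ≤ cz z :=
  XX_le fun _ hv hv1 _ hg => mem_cent.2 (h.Vo_cent hv hv1 hz (h.KK_le_q hv hv1 hg))

end Sit

/-- `Sit` with the points `R` of `V_i`. -/
structure Ins (M : NatK F (S : Subgroup G) P (zl (S : Subgroup G) P) ⊥ k) (i : Fin k) {κ : Type*}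
    (R : κ → Subgroup G) (o : κ) : Prop extends Sit M i where
  bts : BTS (fac M i) R
  ro : R o = line M i
  cen : ∀ j, j ≠ i → fac M j ≤ CenX (fac M i) R

namespace Ins

variable {i : Fin k} {κ : Type*} {R : κ → Subgroup G} {o : κ} (h : Ins M i R o)
include h

theorem trans_X (j l : κ) : ∃ x ∈ BTwo.XX (fac M i) R, BTwo.cj x (R j) = R l := h.bts.toBT.trans_X_one j l

theorem card_R (j : κ) : Nat.card (R j) = 2 := by
  obtain ⟨x, -, hx⟩ := h.trans_X o j
  rw [← hx, BTwo.card_cj, h.ro, card_line, h.two]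

/-- `X` is transitive on `V_i#` -/
theorem trans_V {v w : G} (hv : v ∈ fac M i) (hw : w ∈ fac M i) (hv1 : v ≠ 1) (hw1 : w ≠ 1) :
    ∃ d ∈ BTwo.XX (fac M i) R, d * v * d⁻¹ = w := by
  obtain ⟨j, hj⟩ := h.bts.R_cov v hv
  obtain ⟨l, hl⟩ := h.bts.R_cov w hw
  obtain ⟨x, hx, e⟩ := h.trans_X j l
  refine ⟨x, hx, ?_⟩
  have h1 : x * v * x⁻¹ ∈ R l := by rw [← e]; exact BTwo.conj_mem_cj hj
  refine HOneTwo.eq_of_card_two (h.card_R l) hl hw1 h1 (fun h0 => hv1 ?_)
  calc v = x⁻¹ * (x * v * x⁻¹) * x := by group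
    _ = 1 := by rw [h0]; group

theorem T_R : stab M i ≤ normalizer (R o : Set G) := by
  rw [h.ro]; exact stab_normalizes_line M h.SP i

theorem comm_zc {x z : G} (hx : x ∈ BTwo.XX (fac M i) R) (hz : z ∈ zc (o2 P)) :
    x * z * x⁻¹ * z⁻¹ ∈ fac M i := by
  have h1 : BTwo.XX (fac M i) R ≤ BTwo.cenMod (fac M i) (zc (o2 P)) := by
    refine iSup_le fun j w hw => ⟨h.bts.W_le_NV j hw, fun z hz => ?_⟩
    obtain ⟨v, hv, hv1⟩ := h.bts.exists_ne j
    have hvi := h.bts.R_le j hv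
    have hzq := h.zz_q hvi hv1 hz
    have hN : normalizer (R j : Set G) = cz v := by
      apply le_antisymm
      · intro g hg
        have h2 := HOneTwo.normalizer_le_cen_of_card (h.card_R j) hg
        exact mem_cent.2 (mem_centralizer_iff.1 h2 v hv).symm
      · intro g hg
        refine centralizer_le_normalizer _ (mem_centralizer_iff.2 fun y hy => ?_)
        by_cases hy1 : y = 1
        · rw [hy1, one_mul, mul_one]
        · rw [HOneTwo.eq_of_card_two (h.card_R j) hv hv1 hy hy1]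
          exact (mem_cent.1 hg).symm
    have hzQ : z ∈ QQ (R j) := by
      change z ∈ ZN.o2 (normalizer (R j : Set G))
      rw [hN]
      exact hzq
    have h3 := h.bts.WQ j hzQ hw
    have e : w * z * w⁻¹ * z⁻¹ = (z * w * z⁻¹ * w⁻¹)⁻¹ := by group
    rw [e]
    exact inv_mem (h.bts.R_le j h3)
  exact (h1 hx).2 z hz

/-- the member of `P_Z` -/
theorem P_Z {x z : G} (hx : x ∈ stab M i ⊔ BTwo.XX (fac M i) R) (hz : z ∈ zc (stab M i)) :
    x * z * x⁻¹ * z⁻¹ ∈ fac M i := by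
  have h1 : stab M i ⊔ BTwo.XX (fac M i) R ≤ BTwo.cenMod (fac M i) (zc (stab M i)) := by
    refine sup_le (fun t ht => ⟨h.T_V ht, fun z hz => ?_⟩) fun x hx =>
      ⟨h.bts.X_le_NV hx, fun z hz => h.comm_zc hx (h.zc_le hz)⟩
    rw [((ZN.mem_zc.1 hz).2.1 t ht), mul_inv_cancel_right, mul_inv_cancel]
    exact one_mem _
  exact (h1 hx).2 z hz

/-- **(OT)** for `X` -/
theorem loc {H : Subgroup G} (hT : stab M i ≤ H) (hX : BTwo.XX (fac M i) R ≤ H) :
    ZN.o2 H ≤ centralizer (fac M i : Set G) :=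
  h.ot hT hX h.bts.X_le_NV fun _ hv _ hw hv1 hw1 => h.trans_V hv hw hv1 hw1

/-- **The instance.** -/
theorem htt : HT.HTT (stab M i) (stab M i ⊔ BTwo.XX (fac M i) R) (fac M i) R o where
  toBT := h.bts.toBT
  card_R := h.card_R
  char2 := h.c2
  S_p := h.T2
  S_odd := by rw [h.ro]; exact h.odd
  S_V := h.T_V
  S_R := h.T_R
  S_P := le_sup_left
  P_V := sup_le h.T_V h.bts.X_le_NV
  P_trans j := by
    obtain ⟨x, hx, e⟩ := h.trans_X o j
    exact ⟨x, mem_sup_right hx, e⟩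
  P_Z _ hx _ hz := h.P_Z hx hz
  loc _ hT hX _ _ := h.loc hT hX

/-- `v ∈ Ω₁Z(T) ∩ V^i` lies in `Z₀` -/
theorem mem_Z0 {z : G} (hz : z ∈ zc (stab M i)) (hzi : z ∈ Vo (fac M) i) :
    z ∈ zc (stab M i) ⊓ centralizer ((stab M i ⊔ BTwo.XX (fac M i) R : Subgroup G) : Set G) := by
  refine ⟨hz, ?_⟩
  have h1 : Vo (fac M) i ≤ CenX (fac M i) R := Vo_le h.cen
  have h2 : stab M i ⊔ BTwo.XX (fac M i) R ≤ cz z :=
    sup_le (fun t ht => mem_cent.2 ((ZN.mem_zc.1 hz).2.1 t ht)) fun x hx =>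
      mem_cent.2 (mem_centralizer_iff.1 (h1 hzi) x hx)
  exact mem_centralizer_iff.2 fun x hx => mem_cent.1 (h2 hx)

/-- **`c' = 1`** (#18372 (1)) -/
theorem c_one {c : G} (hc : c ∈ zc (stab M i) ⊓
    centralizer ((stab M i ⊔ BTwo.XX (fac M i) R : Subgroup G) : Set G)) (hS : HT.Sig (fac M i) R o c) : c = 1 := by
  have hcz := h.zc_le hc.1
  refine eq_one_of_all h.par h.fr hcz fun j v hv hv1 g hg => ?_
  obtain ⟨v₀, hv₀, hv₀1⟩ := exists_line M i
  have hv₀i := line_le M i hv₀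
  by_cases hji : j = i
  · subst hji
    obtain ⟨d, hd, e⟩ := h.trans_V hv hv₀i hv1 hv₀1
    have h1 : d * g * d⁻¹ ∈ stab M j := by
      refine h.q_T hv₀ hv₀1 (h.fr.KK_le_q hv₀i hv₀1 ?_)
      have := KK_conj (h := d) hg
      rwa [e] at this
    have h2 : d * c = c * d := mem_centralizer_iff.1 hc.2 d (mem_sup_right hd)
    have h3 : (d * g * d⁻¹) * c = c * (d * g * d⁻¹) := (ZN.mem_zc.1 hc.1).2.1 _ h1
    have h4 : d⁻¹ * c = c * d⁻¹ := by rw [inv_mul_eq_iff_eq_mul, ← mul_assoc, h2, mul_inv_cancel_right]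
    calc g * c = d⁻¹ * (d * g * d⁻¹) * (d * c) := by group
      _ = d⁻¹ * ((d * g * d⁻¹) * c) * d := by rw [h2]; group
      _ = (d⁻¹ * c) * (d * g) := by rw [h3]; group
      _ = c * g := by rw [h4]; group
  have hgq := h.fr.KK_le_q hv hv1 hg
  have hgV : ∀ x ∈ fac M i, g * x = x * g := fun x hx => h.fr.Qc j i (fun e => hji e.symm) v hv hv1 g hgq x hx
  have hRV : R o ≤ fac M i := h.bts.R_le o
  have hgN : g ∈ normalizer (R o : Set G) := by
    refine (centralizer_le_normalizer _) ?_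
    rw [mem_centralizer_iff]
    exact fun y hy => (hgV y (hRV hy)).symm
  obtain ⟨v₁, hv₁, hv₁1, hvv⟩ := h.fr.exists_other (i := i) v₀
  have hv₁R : v₁ ∉ R o := by
    rw [h.ro]
    intro h0
    exact hvv (mem_line_two M h.two hv₀ hv₀1 h0 |>.resolve_left hv₁1).symm
  have h1 := hS g hgN (fun x hx => mem_sup_left (by rw [conj_of_comm (hgV x hx)]; exact hx)) v₁ hv₁ hv₁R
  have e1 : (v₁ * c)⁻¹ * g * (v₁ * c) * g⁻¹ = c⁻¹ * (g * c * g⁻¹) := by
    calc (v₁ * c)⁻¹ * g * (v₁ * c) * g⁻¹ = c⁻¹ * v₁⁻¹ * (g * v₁) * c * g⁻¹ := by group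
      _ = c⁻¹ * v₁⁻¹ * (v₁ * g) * c * g⁻¹ := by rw [hgV v₁ hv₁]
      _ = c⁻¹ * (g * c * g⁻¹) := by group
  rw [e1] at h1
  have hcq := h.zz_q hv hv1 hcz
  rcases h.fr.KK_act hv hg hcq with h2 | h2
  · exact comm_of_conj h2
  · exfalso
    have h3 : v * c = c * v := (mem_cent.1 ((o2_le _) hcq)).symm
    rw [h2, h3, inv_mul_cancel_left] at h1
    exact hv1 (h.fr.disj (fun e => hji e) hv (hRV h1))

/-- **`T` is Sylow in `M₀ = ⟨C(Ω₁Z(T)), X⟩`** -/
theorem odd_MZ {j : Fin k} (hij : j ≠ i) (hT : stab M j = stab M i) (h' : Sit M j) :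
    ¬ 2 ∣ (stab M i).relIndex (HT.JunAB.MZ (stab M i) (fac M i) R) := by
  obtain ⟨w, hw, hw1⟩ := exists_line M j
  have hwz : w ∈ zc (stab M i) := hT ▸ h'.line_zc hw
  have hw0 := h.mem_Z0 hwz (le_Vo (V := fac M) hij (line_le M j hw))
  have h1 : HT.JunAB.MZ (stab M i) (fac M i) R ≤ cz w := HT.JunAB.MZ_le h.htt hw0
  have h2 : stab M i ≤ HT.JunAB.MZ (stab M i) (fac M i) R := by
    refine le_trans (fun t ht => mem_centralizer_iff.2 fun z hz => ?_) le_sup_left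
    exact ((ZN.mem_zc.1 hz).2.1 t ht).symm
  intro hd
  have h3 := h'.odd' hw hw1
  rw [hT, ← relIndex_mul_relIndex _ _ _ h2 h1] at h3
  exact h3 (hd.mul_right _)

end Ins

end frame

end Cfsg.Agent.Omega.IId.Big.Syl

end

-- merged: Cfsg.Agent.Mrg.Omega.IId.Big.Main
section

section


/-!
# II.d, THEOREM A (bb OMEGA 17530): (A3)-(A5), END

`S` a Sylow 2-subgroup of `G`, `Fr S V`, (H2), at least three blocks.

* `DA = ∏ D_i`, `Do i = ∏_{j ≠ i} D_j`, `YY = ⟨U_v⟩`;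
* `Fr.YY_eq` : `YY = DA`;
* `Fr.cent_KK` : `C_{DA}(W_v) ≤ ⟨v⟩ D^i`;
* `Fr.cent_DA` : `C_G(DA) = DA`;
* `Fr.zq` : `Z(Q_v) ≤ ⟨v⟩ D^i`;
* `Fr.norm_cz` : `C_G(v) ≤ N_G(DA)`;
* **`Fr.kill_two`**, **`Fr.kill_one`** : the two ends (partners with `k' ≥ 2`, `k' = 1`).
-/

set_option autoImplicit false
set_option linter.unusedSectionVars false

namespace Cfsg.Agent.Omega.IId.Big

open Subgroup Cfsg
open Cfsg.Agent.ZN (o2 zc)
open Cfsg.Agent.MinSimple.VModule (le_o2 le_normalizer_o2 mem_zc o2_isPGroup o2_le)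
open Triangle (KK KK_conj KK_le_o2 mem_cent mem_KK mem_zpowers_iff_of_sq cent_conj o2_cent_conj)

universe u

variable {G : Type u} [Group G]

section tools

theorem norm_inf_cent {H K A : Subgroup G} (hK : H ≤ normalizer (K : Set G)) (hA : H ≤ normalizer (A : Set G)) :
    H ≤ normalizer ((K ⊓ centralizer (A : Set G) : Subgroup G) : Set G) := by
  apply norm_of
  rintro c hc b ⟨hb1, hb2⟩
  refine ⟨conj_mem hK hc hb1, mem_centralizer_iff.2 fun n hn => ?_⟩
  have hn' : c⁻¹ * n * c ∈ A := by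
    have := conj_mem hA (inv_mem hc) hn
    rwa [inv_inv] at this
  have h1 := mem_centralizer_iff.1 hb2 _ hn'
  calc n * (c * b * c⁻¹) = c * ((c⁻¹ * n * c) * b) * c⁻¹ := by group
    _ = c * b * c⁻¹ * n := by rw [h1]; group

theorem norm_cent {H A : Subgroup G} (hA : H ≤ normalizer (A : Set G)) :
    H ≤ normalizer (centralizer (A : Set G) : Set G) := by
  have h1 : H ≤ normalizer ((⊤ : Subgroup G) : Set G) := norm_of fun _ _ _ _ => mem_top _
  have := norm_inf_cent h1 hA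
  rwa [top_inf_eq] at this

theorem norm_closure {s : Set G} {g : G} {B : Subgroup G} (h : ∀ x ∈ s, g * x * g⁻¹ ∈ B) {x : G}
    (hx : x ∈ closure s) : g * x * g⁻¹ ∈ B := by
  have h1 : closure s ≤ B.comap (MulAut.conj g).toMonoidHom := by
    rw [closure_le]
    intro y hy
    exact h y hy
  exact h1 hx

end tools

section defs

variable {ι : Type} (V : ι → Subgroup G)

/-- `∏ D_i` -/
def DA : Subgroup G := closure {x | ∃ i, x ∈ DD V i}

/-- `D^i = ∏_{j ≠ i} D_j` -/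
def Do (i : ι) : Subgroup G := closure {x | ∃ j, j ≠ i ∧ x ∈ DD V j}

/-- `⟨U_v⟩` -/
def YY : Subgroup G := closure {x | ∃ i, ∃ v ∈ V i, v ≠ 1 ∧ x ∈ UU V i v}

variable {V}

theorem DD_le_DA {i : ι} : DD V i ≤ DA V := fun _ hx => subset_closure ⟨i, hx⟩

theorem DD_le_Do {i j : ι} (hj : j ≠ i) : DD V j ≤ Do V i := fun _ hx => subset_closure ⟨j, hj, hx⟩

theorem V_le_DD' {i : ι} : V i ≤ DD V i :=
  fun _ hx => mem_DD.2 fun _ hl _ _ _ => V_le_UU (Ne.symm hl) hx

theorem V_le_DA {i : ι} : V i ≤ DA V := V_le_DD'.trans DD_le_DA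

theorem Do_le_DA {i : ι} : Do V i ≤ DA V := Subgroup.closure_mono fun _ ⟨j, _, hx⟩ => ⟨j, hx⟩

theorem Do_le_UU {i : ι} {v : G} (hv : v ∈ V i) (hv1 : v ≠ 1) : Do V i ≤ UU V i v := by
  rw [Do, closure_le]
  rintro x ⟨j, hj, hx⟩
  exact mem_DD.1 hx i (Ne.symm hj) v hv hv1

end defs

namespace Fr

variable {ι : Type} [Finite ι] {S : Sylow 2 G} {V : ι → Subgroup G} [Finite G] (h : Fr (S : Subgroup G) V)
include h

omit [Finite ι] in
theorem DD_comm (hk : ∀ i j : ι, ∃ l, l ≠ i ∧ l ≠ j) {i j : ι} {x y : G} (hx : x ∈ DD V i) (hy : y ∈ DD V j) :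
    x * y = y * x := by
  obtain ⟨l, hl1, hl2⟩ := hk i j
  obtain ⟨p, hp, -, -, hp1, -, -⟩ := h.exists_two l
  exact h.U_comm hp hp1 (mem_DD.1 hx l hl1 p hp hp1) (mem_DD.1 hy l hl2 p hp hp1)

/-- all `U_v` commute -/
theorem UU_comm (hH : H2 V) (hk : ∀ i j : ι, ∃ l, l ≠ i ∧ l ≠ j) {i j : ι} {v p : G} (hv : v ∈ V i) (hv1 : v ≠ 1)
    (hp : p ∈ V j) (hp1 : p ≠ 1) {x y : G} (hx : x ∈ UU V i v) (hy : y ∈ UU V j p) : x * y = y * x := by
  by_cases hij : i = j
  · subst hij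
    exact h.U_comm_U hH hk hv hv1 hp hp1 hx hy
  · exact h.U_cent hp hp1 hy (hH i j hij v hv hv1 p hp hp1 hx)

theorem YY_comm (hH : H2 V) (hk : ∀ i j : ι, ∃ l, l ≠ i ∧ l ≠ j) {x y : G} (hx : x ∈ YY V) (hy : y ∈ YY V) :
    x * y = y * x := by
  refine cent_of_closure ?_ hy
  rintro w ⟨j, p, hp, hp1, hw⟩
  refine (cent_of_closure ?_ hx).symm
  rintro w' ⟨i, v, hv, hv1, hw'⟩
  exact h.UU_comm hH hk hp hp1 hv hv1 hw hw'

theorem YY_sq (hH : H2 V) (hk : ∀ i j : ι, ∃ l, l ≠ i ∧ l ≠ j) {x : G} (hx : x ∈ YY V) : x * x = 1 := by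
  refine sq_of_closure ?_ (fun x hx y hy => h.YY_comm hH hk hx hy) hx
  rintro w ⟨i, v, hv, hv1, hw⟩
  exact h.U_sq hv hv1 hw

theorem YY_two (hH : H2 V) (hk : ∀ i j : ι, ∃ l, l ≠ i ∧ l ≠ j) : IsPGroup 2 (YY V) :=
  isPGroup_of_sq fun _ hx => h.YY_sq hH hk hx

omit [Finite ι] in
/-- (A3) -/
theorem norm_DD {i : ι} {v c x : G} (hcU : ∀ u ∈ UU V i v, c * u = u * c) (hx : x ∈ DD V i) :
    c * x * c⁻¹ ∈ DD V i := by
  refine mem_DD.2 fun j hj p hp hp1 => ?_
  have h1 : c ∈ cz p := mem_cent.2 (hcU p (V_le_UU hj hp))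
  exact conj_mem cz_norm_UU h1 (mem_DD.1 hx j hj p hp hp1)

omit [Finite ι] in
theorem Cc_norm {i : ι} {v : G} :
    cz v ≤ normalizer ((cz v ⊓ centralizer (UU V i v : Set G) : Subgroup G) : Set G) :=
  norm_inf_cent (le_normalizer) cz_norm_UU

/-- (A3) -/
theorem U_le_qz (hH : H2 V) (hk : ∀ i j : ι, ∃ l, l ≠ i ∧ l ≠ j) {i j : ι} {v p : G} (hv : v ∈ V i) (hv1 : v ≠ 1)
    (hp : p ∈ V j) (hp1 : p ≠ 1) : UU V j p ≤ qz v := by
  by_cases hij : j = i
  · subst hij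
    have hC2n : (cz v ⊓ centralizer (UU V j v : Set G) : Subgroup G) ≤
        normalizer (((cz v ⊓ centralizer (UU V j v : Set G)) ⊓ centralizer (DD V j : Set G) : Subgroup G) : Set G) :=
      norm_inf_cent le_normalizer (norm_of fun c hc x hx =>
        h.norm_DD (v := v) (fun u hu => (mem_centralizer_iff.1 hc.2 u hu).symm) hx)
    have h1 : UU V j p ≤ (cz v ⊓ centralizer (UU V j v : Set G)) ⊓ centralizer (DD V j : Set G) := by
      intro x hx
      refine ⟨⟨mem_cent.2 (h.U_le_cent hp hp1 hx hv), mem_centralizer_iff.2 fun u hu => ?_⟩,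
        mem_centralizer_iff.2 fun d hd => ?_⟩
      · exact h.UU_comm hH hk hv hv1 hp hp1 hu hx
      · obtain ⟨l, hl, -⟩ := hk j j
        obtain ⟨t, ht, -, -, ht1, -, -⟩ := h.exists_two l
        exact h.UU_comm hH hk ht ht1 hp hp1 (mem_DD.1 hd l hl t ht ht1) hx
    have h2 : ((cz v ⊓ centralizer (UU V j v : Set G)) ⊓ centralizer (DD V j : Set G) : Subgroup G) ≤
        normalizer (UU V j p : Set G) := by
      refine le_trans ?_ cz_norm_UU
      rintro x ⟨-, hx⟩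
      exact mem_cent.2 (mem_centralizer_iff.1 hx p (V_le_DD' hp)).symm
    exact ((le_o2 h1 (h.U_two hp hp1) h2).trans (o2_le_o2_of inf_le_left hC2n)).trans
      (o2_le_o2_of inf_le_left h.Cc_norm)
  · exact hH j i hij p hp hp1 v hv hv1

theorem YY_le_qz (hH : H2 V) (hk : ∀ i j : ι, ∃ l, l ≠ i ∧ l ≠ j) {i : ι} {v : G} (hv : v ∈ V i) (hv1 : v ≠ 1) :
    YY V ≤ qz v := by
  rw [YY, closure_le]
  rintro x ⟨j, p, hp, hp1, hx⟩
  exact h.U_le_qz hH hk hv hv1 hp hp1 hx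

omit [Finite ι] in
theorem DD_le_YY (hk : ∀ i j : ι, ∃ l, l ≠ i ∧ l ≠ j) {i : ι} : DD V i ≤ YY V := by
  intro x hx
  obtain ⟨j, hj, -⟩ := hk i i
  obtain ⟨p, hp, -, -, hp1, -, -⟩ := h.exists_two j
  exact subset_closure ⟨j, p, hp, hp1, mem_DD.1 hx j hj p hp hp1⟩

omit [Finite ι] in
theorem S_norm_YY : (S : Subgroup G) ≤ normalizer (YY V : Set G) := by
  apply norm_of
  intro s hs x hx
  refine norm_closure ?_ hx
  rintro y ⟨i, v, hv, hv1, hy⟩
  obtain ⟨j, hj⟩ := h.perm s hs i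
  refine subset_closure ⟨j, s * v * s⁻¹, (hj v).1 hv, fun h2 => hv1 ?_, h.perm_UU hj hs hy⟩
  have e : v = s⁻¹ * (s * v * s⁻¹) * s := by group
  rw [e, h2]; group

/-- (A4) -/
theorem gl_YY (hH : H2 V) (hk : ∀ i j : ι, ∃ l, l ≠ i ∧ l ≠ j) (i : ι) : Gl V i (YY V) where
  tv := fun _ hv hv1 _ hg => ⟨KK_comm hg, fun _ hu => h.KK_act hv hg (h.YY_le_qz hH hk hv hv1 hu)⟩
  le := h.DD_le_YY hk
  ker := by
    intro v hv hv1 g hg hgD y hy
    refine cent_of_closure ?_ hy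
    rintro u ⟨j, p, hp, hp1, hu⟩
    by_cases hj : j = i
    · subst hj
      by_cases hpv : p = v
      · subst hpv
        exact h.U_cent hv hv1 hu (h.KK_le_q hv hv1 hg)
      · by_contra hcon
        have h1 := h.KK_act hv hg (h.U_le_qz hH hk hv hv1 hp hp1 hu)
        have h2 : g ∈ cz p := mem_cent.2 (hgD p (V_le_DD j hp))
        have h3 := conj_mem cz_norm_UU h2 hu
        rcases h1 with h1 | h1
        · exact hcon (comm_of_conj h1)
        · rw [h1] at h3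
          have h4 : v ∈ UU V j p := by
            have := mul_mem h3 (inv_mem hu)
            rwa [mul_inv_cancel_right] at this
          obtain ⟨k, hk', h5⟩ := h.move hp hv hp1 hv1 hpv
          have h6 := h.U_cent hp hp1 h4 (h.KK_le_q hp hp1 hk')
          rw [conj_of_comm h6] at h5
          exact hp1 (mul_eq_right.1 h5.symm)
    · exact h.cent_U hH hk hj hp hp1 hv hv1 hg hgD u hu

theorem YY_le_DA (hH : H2 V) (hk : ∀ i j : ι, ∃ l, l ≠ i ∧ l ≠ j) : YY V ≤ DA V := by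
  classical
  have := Fintype.ofFinite ι
  intro y hy
  obtain ⟨d, hd, hdY, h1⟩ := h.glue (fun x hx y hy => h.YY_comm hH hk hx hy) Finset.univ
    (fun i _ => h.gl_YY hH hk i) hy
  have h2 : y * d = 1 := h.fix_bot (A := YY V) (h.YY_two hH hk) h.S_norm_YY
    (mul_mem hy hdY) (fun i g hg => h1 i (Finset.mem_univ i) g hg)
  have h3 : d ∈ DA V := by
    rw [DA]
    refine Subgroup.closure_mono ?_ hd
    rintro x ⟨i, _, hx⟩
    exact ⟨i, hx⟩
  rw [eq_inv_of_mul_eq_one_left h2]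
  exact inv_mem h3

theorem YY_eq (hH : H2 V) (hk : ∀ i j : ι, ∃ l, l ≠ i ∧ l ≠ j) : YY V = DA V := by
  refine le_antisymm (h.YY_le_DA hH hk) ?_
  rw [DA, closure_le]
  rintro x ⟨i, hx⟩
  exact h.DD_le_YY hk hx

/-! ### (A5) -/

/-- `C_{DA}(W_v) ≤ ⟨v⟩ D^i` -/
theorem cent_KK (hH : H2 V) (hk : ∀ i j : ι, ∃ l, l ≠ i ∧ l ≠ j) {i : ι} {v : G} (hv : v ∈ V i) (hv1 : v ≠ 1)
    {y : G} (hy : y ∈ DA V) (hc : ∀ g ∈ KK v, g * y = y * g) : y ∈ Do V i ∨ v * y ∈ Do V i := by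
  have hy' : y ∈ closure {x | ∃ j, (fun _ : ι => True) j ∧ x ∈ DD V j} := by
    rw [DA] at hy
    refine Subgroup.closure_mono ?_ hy
    rintro x ⟨j, hx⟩
    exact ⟨j, trivial, hx⟩
  obtain ⟨a, ha, b, hb, rfl⟩ := split (A := DD V) (fun i j _ x hx y hy => h.DD_comm hk hx hy) (fun _ => True) i hy'
  have hb' : b ∈ Do V i := by
    rw [Do]
    refine Subgroup.closure_mono ?_ hb
    rintro x ⟨j, ⟨_, hj⟩, hx⟩
    exact ⟨j, hj, hx⟩
  have hbX : ∀ g ∈ XX V i, g * b = b * g := by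
    intro g hg
    refine cent_of_closure ?_ hb'
    rintro y ⟨j, hj, hy⟩
    exact h.cent_DD (Ne.symm hj) g hg y hy
  have h1 : ∀ g ∈ KK v, g * a = a * g := by
    intro g hg
    have h3 := hc g hg
    have h4 := hbX g (KK_le_XX hv hv1 hg)
    have h5 : g * a * b = a * g * b := by
      calc g * a * b = g * (a * b) := by group
        _ = a * (b * g) := by rw [h3]; group
        _ = a * g * b := by rw [← h4]; group
    exact mul_right_cancel h5
  have haY : a ∈ YY V := h.DD_le_YY hk ha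
  have hvY : V i ≤ YY V := V_le_DD'.trans (h.DD_le_YY hk)
  obtain ⟨v', hv', hv1', hvv'⟩ := h.exists_other (i := i) v
  have key : ∀ t ∈ DD V i, (∀ g ∈ XX V i, g * t = t * g) → t = 1 := by
    intro t ht h3
    refine h.fix_bot (A := YY V) (h.YY_two hH hk) h.S_norm_YY (h.DD_le_YY hk ht) fun j g hg => ?_
    by_cases hji : j = i
    · subst hji; exact h3 g hg
    · exact h.cent_DD hji g hg t ht
  rcases h.second (Y := YY V) (fun x hx y hy => h.YY_comm hH hk hx hy) hv hv' hv1 hv1' hvv' (hvY hv) (hvY hv')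
    ((h.gl_YY hH hk i).tv v' hv' hv1') haY h1 with h2 | h2
  · left
    rw [key a ha h2, one_mul]
    exact hb'
  · right
    have h3 := key (a * v) (mul_mem ha (V_le_DD' hv)) h2
    have h4 : v * (a * b) = (a * v) * b := by
      rw [← mul_assoc, h.DD_comm hk (V_le_DD' hv) ha]
    rw [h4, h3, one_mul]
    exact hb'

theorem DA_comm (hH : H2 V) (hk : ∀ i j : ι, ∃ l, l ≠ i ∧ l ≠ j) {x y : G} (hx : x ∈ DA V) (hy : y ∈ DA V) :
    x * y = y * x := by
  rw [← h.YY_eq hH hk] at hx hy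
  exact h.YY_comm hH hk hx hy

theorem DA_le_qz (hH : H2 V) (hk : ∀ i j : ι, ∃ l, l ≠ i ∧ l ≠ j) {i : ι} {v : G} (hv : v ∈ V i) (hv1 : v ≠ 1) :
    DA V ≤ qz v := by
  rw [← h.YY_eq hH hk]
  exact h.YY_le_qz hH hk hv hv1

theorem S_norm_DA (hH : H2 V) (hk : ∀ i j : ι, ∃ l, l ≠ i ∧ l ≠ j) :
    (S : Subgroup G) ≤ normalizer (DA V : Set G) := by
  rw [← h.YY_eq hH hk]
  exact h.S_norm_YY

theorem DA_two (hH : H2 V) (hk : ∀ i j : ι, ∃ l, l ≠ i ∧ l ≠ j) : IsPGroup 2 (DA V) := by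
  rw [← h.YY_eq hH hk]
  exact h.YY_two hH hk

theorem UU_le_DA (hH : H2 V) (hk : ∀ i j : ι, ∃ l, l ≠ i ∧ l ≠ j) {i : ι} {v : G} (hv : v ∈ V i) (hv1 : v ≠ 1) :
    UU V i v ≤ DA V := by
  rw [← h.YY_eq hH hk]
  exact fun x hx => subset_closure ⟨i, v, hv, hv1, hx⟩

/-- `U_v ≤ ⟨v⟩ D^i` -/
theorem UU_le (hH : H2 V) (hk : ∀ i j : ι, ∃ l, l ≠ i ∧ l ≠ j) {i : ι} {v : G} (hv : v ∈ V i) (hv1 : v ≠ 1)
    {u : G} (hu : u ∈ UU V i v) : u ∈ Do V i ∨ v * u ∈ Do V i :=
  h.cent_KK hH hk hv hv1 (h.UU_le_DA hH hk hv hv1 hu) fun _ hg => h.U_cent hv hv1 hu (h.KK_le_q hv hv1 hg)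

omit [Finite ι] in
/-- `C_v ∩ C(U_v)` normalises `DA` -/
theorem Cc_norm_DA {i : ι} {v : G} (hv : v ∈ V i) (hv1 : v ≠ 1) :
    centralizer (UU V i v : Set G) ≤ normalizer (DA V : Set G) := by
  apply norm_of
  intro c hc x hx
  have hcU : ∀ u ∈ UU V i v, c * u = u * c := fun u hu => (mem_centralizer_iff.1 hc u hu).symm
  refine norm_closure ?_ hx
  rintro y ⟨j, hy⟩
  by_cases hji : j = i
  · subst hji
    exact DD_le_DA (h.norm_DD hcU hy)
  · rw [conj_of_comm (hcU y (mem_DD.1 hy i (Ne.symm hji) v hv hv1))]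
    exact DD_le_DA hy

theorem OO_le_qz (hH : H2 V) (hk : ∀ i j : ι, ∃ l, l ≠ i ∧ l ≠ j) {i : ι} {v : G} (hv : v ∈ V i) (hv1 : v ≠ 1) :
    o2 (centralizer (DA V : Set G)) ≤ qz v := by
  have h1 : centralizer (DA V : Set G) ≤ cz v ⊓ centralizer (UU V i v : Set G) := by
    intro x hx
    refine ⟨mem_cent.2 (mem_centralizer_iff.1 hx v (V_le_DA hv)).symm, ?_⟩
    exact mem_centralizer_iff.2 fun u hu => mem_centralizer_iff.1 hx u (h.UU_le_DA hH hk hv hv1 hu)
  have h2 : (cz v ⊓ centralizer (UU V i v : Set G) : Subgroup G) ≤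
      normalizer (centralizer (DA V : Set G) : Set G) :=
    norm_cent (inf_le_right.trans (h.Cc_norm_DA hv hv1))
  exact (o2_le_o2_of h1 h2).trans (o2_le_o2_of inf_le_left h.Cc_norm)

theorem S_norm_OO (hH : H2 V) (hk : ∀ i j : ι, ∃ l, l ≠ i ∧ l ≠ j) :
    (S : Subgroup G) ≤ normalizer (o2 (centralizer (DA V : Set G)) : Set G) :=
  norm_o2 (norm_cent (h.S_norm_DA hH hk))

omit [Finite ι] h in
theorem OO_cent {x d : G} (hx : x ∈ o2 (centralizer (DA V : Set G))) (hd : d ∈ DA V) : x * d = d * x :=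
  (mem_centralizer_iff.1 (o2_le _ hx) d hd).symm

theorem OO_sq (hH : H2 V) (hk : ∀ i j : ι, ∃ l, l ≠ i ∧ l ≠ j) {x : G}
    (hx : x ∈ o2 (centralizer (DA V : Set G))) : x * x = 1 := by
  refine h.fix_bot (o2_isPGroup _) (h.S_norm_OO hH hk) (mul_mem hx hx) fun i => cent_of_XX ?_
  intro v hv hv1 g hg
  apply comm_of_conj
  have h1 := OO_cent hx (V_le_DA hv)
  rcases h.KK_act hv hg (h.OO_le_qz hH hk hv hv1 hx) with h2 | h2
  · calc g * (x * x) * g⁻¹ = (g * x * g⁻¹) * (g * x * g⁻¹) := by group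
      _ = x * x := by rw [h2]
  · calc g * (x * x) * g⁻¹ = (g * x * g⁻¹) * (g * x * g⁻¹) := by group
      _ = v * (x * v) * x := by rw [h2]; group
      _ = (v * v) * (x * x) := by rw [h1]; group
      _ = x * x := by rw [h.sq i v hv, one_mul]

theorem OO_comm (hH : H2 V) (hk : ∀ i j : ι, ∃ l, l ≠ i ∧ l ≠ j) {x y : G}
    (hx : x ∈ o2 (centralizer (DA V : Set G))) (hy : y ∈ o2 (centralizer (DA V : Set G))) : x * y = y * x := by
  have h1 := h.OO_sq hH hk hx
  have h2 := h.OO_sq hH hk hy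
  have h3 := h.OO_sq hH hk (mul_mem hx hy)
  calc x * y = x * (x * y * (x * y)) * y := by rw [h3, mul_one]
    _ = (x * x) * (y * x) * (y * y) := by group
    _ = y * x := by rw [h1, h2, one_mul, mul_one]

theorem DA_le_OO (hH : H2 V) (hk : ∀ i j : ι, ∃ l, l ≠ i ∧ l ≠ j) : DA V ≤ o2 (centralizer (DA V : Set G)) := by
  refine le_o2 ?_ (h.DA_two hH hk) ?_
  · intro x hx
    exact mem_centralizer_iff.2 fun y hy => h.DA_comm hH hk hy hx
  · apply norm_of
    intro c hc x hx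
    rw [conj_of_comm (mem_centralizer_iff.1 hc x hx).symm]
    exact hx

theorem gl_OO (hH : H2 V) (hk : ∀ i j : ι, ∃ l, l ≠ i ∧ l ≠ j) (i : ι) :
    Gl V i (o2 (centralizer (DA V : Set G))) where
  tv := fun _ hv hv1 _ hg => ⟨KK_comm hg, fun _ hu => h.KK_act hv hg (h.OO_le_qz hH hk hv hv1 hu)⟩
  le := DD_le_DA.trans (h.DA_le_OO hH hk)
  ker := by
    intro v hv hv1 g hg hgD y hy
    have hgA : g ∈ centralizer (DA V : Set G) := by
      refine mem_centralizer_iff.2 fun x hx => ?_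
      refine (cent_of_closure ?_ hx).symm
      rintro d ⟨j, hd⟩
      by_cases hji : j = i
      · subst hji; exact hgD d hd
      · exact h.cent_DD (Ne.symm hji) g (KK_le_XX hv hv1 hg) d hd
    have hcv : centralizer (DA V : Set G) ≤ cz v := fun x hx =>
      mem_cent.2 (mem_centralizer_iff.1 hx v (V_le_DA hv)).symm
    have h1 : centralizer (DA V : Set G) ⊓ KK v ≤ o2 (centralizer (DA V : Set G)) := by
      refine le_o2 inf_le_left ((h.KK_two hv hv1).to_le inf_le_right) ?_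
      apply norm_of
      rintro c hc b ⟨hb1, hb2⟩
      exact ⟨mul_mem (mul_mem hc hb1) (Subgroup.inv_mem _ hc), conj_mem (norm_KK hcv) hc hb2⟩
    exact h.OO_comm hH hk (h1 ⟨hgA, hg⟩) hy

theorem OO_le_DA (hH : H2 V) (hk : ∀ i j : ι, ∃ l, l ≠ i ∧ l ≠ j) : o2 (centralizer (DA V : Set G)) ≤ DA V := by
  classical
  have := Fintype.ofFinite ι
  intro y hy
  obtain ⟨d, hd, hdY, h1⟩ := h.glue (fun x hx y hy => h.OO_comm hH hk hx hy) Finset.univ
    (fun i _ => h.gl_OO hH hk i) hy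
  have h2 : y * d = 1 := h.fix_bot (o2_isPGroup _) (h.S_norm_OO hH hk)
    (mul_mem hy hdY) (fun i g hg => h1 i (Finset.mem_univ i) g hg)
  have h3 : d ∈ DA V := by
    rw [DA]
    refine Subgroup.closure_mono ?_ hd
    rintro x ⟨i, _, hx⟩
    exact ⟨i, hx⟩
  rw [eq_inv_of_mul_eq_one_left h2]
  exact inv_mem h3

/-- **(A5)** : `C_G(DA) = DA` -/
theorem cent_DA (hG : IsCharacteristicTwoType G) (hH : H2 V) (hk : ∀ i j : ι, ∃ l, l ≠ i ∧ l ≠ j) (i : ι) :
    centralizer (DA V : Set G) ≤ DA V := by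
  obtain ⟨a, ha, -, -, ha1, -, -⟩ := h.exists_two i
  have hne : DA V ≠ ⊥ := fun h1 => ha1 (mem_bot.1 (h1 ▸ (V_le_DA ha : a ∈ DA V)))
  have h1 := MinSimple.Basic.char2_normalizer hG (h.DA_two hH hk) hne
  have h2 : centralizer (DA V : Set G) ≤ normalizer (DA V : Set G) := by
    apply norm_of
    intro c hc x hx
    rw [conj_of_comm (mem_centralizer_iff.1 hc x hx).symm]
    exact hx
  have h3 := NOne.LemmaT.char2_of_normal h1 h2 (norm_cent le_rfl)
  refine le_trans ?_ (h.OO_le_DA hH hk)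
  refine le_trans (le_inf le_rfl ?_) h3
  intro x hx
  refine mem_centralizer_iff.2 fun y hy => ?_
  exact mem_centralizer_iff.1 hx y (h.OO_le_DA hH hk hy)

/-- `Z(Q_v) ≤ ⟨v⟩ D^i` -/
theorem zq (hG : IsCharacteristicTwoType G) (hH : H2 V) (hk : ∀ i j : ι, ∃ l, l ≠ i ∧ l ≠ j) {i : ι} {v : G}
    (hv : v ∈ V i) (hv1 : v ≠ 1) {y : G} (hy : ∀ q ∈ qz v, q * y = y * q) : y ∈ Do V i ∨ v * y ∈ Do V i := by
  refine h.cent_KK hH hk hv hv1 (h.cent_DA hG hH hk i ?_) fun g hg => hy g (h.KK_le_q hv hv1 hg)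
  exact mem_centralizer_iff.2 fun d hd => hy d (h.DA_le_qz hH hk hv hv1 hd)

omit [Finite ι] in
/-- `X^i` centralises `D^i` -/
theorem X_Do {i : ι} {g x : G} (hg : g ∈ XX V i) (hx : x ∈ Do V i) : g * x = x * g := by
  refine cent_of_closure ?_ hx
  rintro y ⟨j, hj, hy⟩
  exact h.cent_DD (Ne.symm hj) g hg y hy

/-- **END, `k' ≥ 2`.** -/
theorem kill_two (hG : IsCharacteristicTwoType G) (hH : H2 V) (hk : ∀ i j : ι, ∃ l, l ≠ i ∧ l ≠ j) {i : ι} {v : G}
    (hv : v ∈ V i) (hv1 : v ≠ 1) {A B : Subgroup G} (hvA : v ∈ A) {b₁ b₂ : G} (hb₁ : b₁ ∈ B) (hb₂ : b₂ ∈ B)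
    (h₁ : b₁ ≠ 1) (h₂ : b₂ ≠ 1) (h₁₂ : b₁ ≠ b₂) (hB : ∀ b ∈ B, ∀ q ∈ qz v, q * b = b * q)
    (hA : ∀ b ∈ B, b ≠ 1 → A ≤ qz b ∧ ∀ a ∈ A, ∀ q ∈ qz b, q * a = a * q)
    {a x : G} (ha : a ∈ A) (hx : x ∈ V i) (hax : a * x ≠ x * a) : False := by
  have hvq : v ∈ qz v := h.VQ i i v hv hv1 hv
  have hvv := h.sq i v hv
  -- some `d ∈ B`, `d ∈ D^i`
  obtain ⟨d, hd, hd1, hdD⟩ : ∃ d ∈ B, d ≠ 1 ∧ d ∈ Do V i := by
    rcases h.zq hG hH hk hv hv1 (hB b₁ hb₁) with e1 | e1
    · exact ⟨b₁, hb₁, h₁, e1⟩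
    rcases h.zq hG hH hk hv hv1 (hB b₂ hb₂) with e2 | e2
    · exact ⟨b₂, hb₂, h₂, e2⟩
    have h3 := hB b₁ hb₁ v hvq
    have h4 : b₁ ∈ YY V := by
      rw [h.YY_eq hH hk]
      have h5 := mul_mem (inv_mem (V_le_DA hv)) (Do_le_DA e1)
      rwa [inv_mul_cancel_left] at h5
    have h5 := h.YY_sq hH hk h4
    refine ⟨b₁ * b₂, mul_mem hb₁ hb₂, fun h6 => h₁₂ ?_, ?_⟩
    · exact mul_left_cancel (h5.trans h6.symm)
    · have h6 := mul_mem e1 e2
      have e : v * b₁ * (v * b₂) = b₁ * b₂ := by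
        calc v * b₁ * (v * b₂) = v * (b₁ * v) * b₂ := by group
          _ = (v * v) * (b₁ * b₂) := by rw [← h3]; group
          _ = b₁ * b₂ := by rw [hvv, one_mul]
      rwa [e] at h6
  obtain ⟨hAd, hAc⟩ := hA d hd hd1
  have hXd : XX V i ≤ cz d := fun g hg => mem_cent.2 (h.X_Do hg hdD)
  obtain ⟨v', hv', hv1', hvv'⟩ := h.exists_other (i := i) v
  obtain ⟨g, hg, hgv⟩ := h.move hv' hv hv1' hv1 (Ne.symm hvv')
  have hgd : g ∈ cz d := hXd (KK_le_XX hv' hv1' hg)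
  -- `g v g⁻¹` centralises `Q_d`
  have h3 : ∀ q ∈ qz d, q * (v' * v) = v' * v * q := by
    intro q hq
    rw [← hgv]
    have h4 : g⁻¹ * q * g ∈ qz d := by
      have := conj_mem (le_normalizer_o2 (cz d)) (inv_mem hgd) hq
      rwa [inv_inv] at this
    have h5 := hAc v hvA _ h4
    calc q * (g * v * g⁻¹) = g * ((g⁻¹ * q * g) * v) * g⁻¹ := by group
      _ = g * v * g⁻¹ * q := by rw [h5]; group
  have h4 : ∀ q ∈ qz d, q * v = v * q := hAc v hvA
  have h5 : ∀ q ∈ qz d, q * v' = v' * q := by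
    intro q hq
    have h6 := h3 q hq
    have h7 := h4 q hq
    have h8 : q * v' * v = v' * q * v := by
      calc q * v' * v = q * (v' * v) := by group
        _ = v' * (v * q) := by rw [h6]; group
        _ = v' * q * v := by rw [← h7]; group
    exact mul_right_cancel h8
  apply hax
  have haq := hAd ha
  rcases h.cases4 hv hv' hv1 hv1' hvv' hx with rfl | rfl | rfl | rfl
  · simp
  · exact h4 a haq
  · exact h5 a haq
  · have h6 : Commute a v := h4 a haq
    have h7 : Commute a v' := h5 a haq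
    exact (h6.mul_right h7).eq

/-- `v`, `p ∈ V i`, `p ≠ 1`: `X^i` moves `v` to `p` -/
theorem exists_conj {i : ι} {v p : G} (hv : v ∈ V i) (hp : p ∈ V i) (hv1 : v ≠ 1) (hp1 : p ≠ 1) :
    ∃ g ∈ XX V i, g * v * g⁻¹ = p := by
  by_cases hvp : v = p
  · exact ⟨1, one_mem _, by rw [hvp]; group⟩
  · have hvv := h.sq i v hv
    have hpp := h.sq i p hp
    have hc := h.comm i i v hv p hp
    have h1 : p * v ≠ 1 := fun h2 => hvp (mul_left_cancel (hpp.trans h2.symm)).symm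
    have h2 : p * v ≠ v := fun h2 => hp1 (mul_eq_right.1 h2)
    obtain ⟨g, hg, h3⟩ := h.move (mul_mem hp hv) hv h1 hv1 h2
    refine ⟨g, KK_le_XX (mul_mem hp hv) h1 hg, ?_⟩
    rw [h3, mul_assoc, hvv, mul_one]

/-- **`C_G(v) ≤ N_G(DA)`.** -/
theorem norm_cz (hG : IsCharacteristicTwoType G) (hH : H2 V) (hk : ∀ i j : ι, ∃ l, l ≠ i ∧ l ≠ j) {i : ι} {v : G}
    (hv : v ∈ V i) (hv1 : v ≠ 1) : cz v ≤ normalizer (DA V : Set G) := by
  have hvv := h.sq i v hv
  obtain ⟨v', hv', hv1', hvv'⟩ := h.exists_other (i := i) v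
  obtain ⟨j, hji, -⟩ := hk i i
  obtain ⟨p₁, hp₁, p₂, hp₂, hp₁1, hp₂1, hp₁₂⟩ := h.exists_two j
  -- (a) `c V_i c⁻¹ ≤ DA`
  have ha : ∀ c ∈ cz v, ∀ x ∈ V i, c * x * c⁻¹ ∈ DA V := by
    intro c hc
    have hcv : c * v = v * c := mem_cent.1 hc
    have hq : ∀ p ∈ V j, c⁻¹ * p * c ∈ Do V i ∨ v * (c⁻¹ * p * c) ∈ Do V i := by
      intro p hp
      have h1 : c⁻¹ * p * c ∈ UU V i v := by
        have := conj_mem (cz_norm_UU (V := V) (i := i)) (inv_mem hc) (V_le_UU hji hp)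
        rwa [inv_inv] at this
      exact h.UU_le hH hk hv hv1 h1
    obtain ⟨p, hp, hp1, hpD⟩ : ∃ p ∈ V j, p ≠ 1 ∧ c⁻¹ * p * c ∈ Do V i := by
      rcases hq p₁ hp₁ with e1 | e1
      · exact ⟨p₁, hp₁, hp₁1, e1⟩
      rcases hq p₂ hp₂ with e2 | e2
      · exact ⟨p₂, hp₂, hp₂1, e2⟩
      refine ⟨p₁ * p₂, mul_mem hp₁ hp₂, fun h6 => hp₁₂ (mul_left_cancel ((h.sq j p₁ hp₁).trans h6.symm)), ?_⟩
      have h6 := mul_mem e1 e2
      have h7 : c⁻¹ * v = v * c⁻¹ := by
        calc c⁻¹ * v = c⁻¹ * (v * c) * c⁻¹ := by group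
          _ = v * c⁻¹ := by rw [← hcv]; group
      have h8 : c⁻¹ * p₁ * c * v = v * (c⁻¹ * p₁ * c) := by
        calc c⁻¹ * p₁ * c * v = c⁻¹ * p₁ * (c * v) := by group
          _ = c⁻¹ * (p₁ * v) * c := by rw [hcv]; group
          _ = (c⁻¹ * v) * p₁ * c := by rw [h.comm j i p₁ hp₁ v hv]; group
          _ = v * (c⁻¹ * p₁ * c) := by rw [h7]; group
      have e : v * (c⁻¹ * p₁ * c) * (v * (c⁻¹ * p₂ * c)) = c⁻¹ * (p₁ * p₂) * c := by
        calc v * (c⁻¹ * p₁ * c) * (v * (c⁻¹ * p₂ * c)) = v * (c⁻¹ * p₁ * c * v) * (c⁻¹ * p₂ * c) := by group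
          _ = v * (v * (c⁻¹ * p₁ * c)) * (c⁻¹ * p₂ * c) := by rw [h8]
          _ = (v * v) * (c⁻¹ * (p₁ * p₂) * c) := by group
          _ = c⁻¹ * (p₁ * p₂) * c := by rw [hvv, one_mul]
      rwa [e] at h6
    intro x hx
    by_cases hx1 : x = 1
    · subst hx1
      simp
    obtain ⟨g, hg, h1⟩ := h.exists_conj hv hx hv1 hx1
    have h2 : c * g * c⁻¹ ∈ cz p := by
      refine mem_cent.2 ?_
      have h3 := h.X_Do hg hpD
      calc c * g * c⁻¹ * p = c * (g * (c⁻¹ * p * c)) * c⁻¹ := by group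
        _ = p * (c * g * c⁻¹) := by rw [h3]; group
    have h3 : v ∈ UU V j p := V_le_UU (Ne.symm hji) hv
    have h4 := conj_mem cz_norm_UU h2 h3
    have e : c * g * c⁻¹ * v * (c * g * c⁻¹)⁻¹ = c * x * c⁻¹ := by
      have h5 : c⁻¹ * v * c = v := by
        calc c⁻¹ * v * c = c⁻¹ * (v * c) := by group
          _ = v := by rw [← hcv]; group
      calc c * g * c⁻¹ * v * (c * g * c⁻¹)⁻¹ = c * (g * (c⁻¹ * v * c) * g⁻¹) * c⁻¹ := by group
        _ = c * x * c⁻¹ := by rw [h5, h1]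
    rw [e] at h4
    exact h.UU_le_DA hH hk hp hp1 h4
  -- (b) `D₀`
  have hVD0 : V i ≤ cl (V i ⊔ Do V i) (cz v) := le_sup_left.trans le_cl
  have hDoD0 : Do V i ≤ cl (V i ⊔ Do V i) (cz v) := le_sup_right.trans le_cl
  have hD0 : cl (V i ⊔ Do V i) (cz v) ≤ DA V := by
    refine cl_le fun c hc x hx => ?_
    have h1 : V i ⊔ Do V i ≤ (DA V).comap (MulAut.conj c).toMonoidHom := by
      refine sup_le (fun y hy => ha c hc y hy) fun y hy => ?_
      exact h.UU_le_DA hH hk hv hv1 (conj_mem cz_norm_UU hc (Do_le_UU hv hv1 hy))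
    exact h1 hx
  set D₀ : Subgroup G := cl (V i ⊔ Do V i) (cz v) with hD₀
  -- (d) `X^i` normalises `D₀`
  have hX : XX V i ≤ normalizer (D₀ : Set G) := by
    refine XX_le fun p hp hp1 => norm_of fun g hg x hx => ?_
    rcases h.KK_act hp hg (h.DA_le_qz hH hk hp hp1 (hD0 hx)) with h1 | h1
    · rw [h1]; exact hx
    · rw [h1]; exact mul_mem (hVD0 hp) hx
  -- (e) `C_p` normalises `D₀`
  have hcp : ∀ p ∈ V i, p ≠ 1 → cz p ≤ normalizer (D₀ : Set G) := by
    intro p hp hp1 c hc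
    obtain ⟨g, hg, h1⟩ := h.exists_conj hv hp hv1 hp1
    have h2 : g⁻¹ * c * g ∈ cz v := by
      refine mem_cent.2 ?_
      have h3 : c * p = p * c := mem_cent.1 hc
      rw [← h1] at h3
      calc g⁻¹ * c * g * v = g⁻¹ * (c * (g * v * g⁻¹)) * g := by group
        _ = v * (g⁻¹ * c * g) := by rw [h3]; group
    have h3 := mul_mem (mul_mem (hX hg) (cl_norm h2)) (inv_mem (hX hg))
    have e : g * (g⁻¹ * c * g) * g⁻¹ = c := by group
    rwa [e] at h3
  -- (f) `N₀`, `A₀`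
  have hN0 : ∀ p ∈ V i, p ≠ 1 → o2 (centralizer (D₀ : Set G)) ≤ qz p := by
    intro p hp hp1
    refine o2_le_o2_of (fun x hx => ?_) (norm_cent (hcp p hp hp1))
    exact mem_cent.2 (mem_centralizer_iff.1 hx p (hVD0 hp)).symm
  have hNU : centralizer (D₀ : Set G) ≤ centralizer (UU V i v : Set G) := by
    intro x hx
    refine mem_centralizer_iff.2 fun u hu => mem_centralizer_iff.1 hx u ?_
    rcases h.UU_le hH hk hv hv1 hu with h1 | h1
    · exact hDoD0 h1
    · have h2 := mul_mem (inv_mem (hVD0 hv)) (hDoD0 h1)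
      rwa [inv_mul_cancel_left] at h2
  have hDA0 : DA V ≤ o2 (centralizer (D₀ : Set G)) := by
    refine le_o2 (fun x hx => ?_) (h.DA_two hH hk) (hNU.trans (h.Cc_norm_DA hv hv1))
    exact mem_centralizer_iff.2 fun y hy => h.DA_comm hH hk (hD0 hy) hx
  -- (h) `A₀ ≤ C(DA) ≤ DA`
  have hA0 : o2 (centralizer (D₀ : Set G)) ≤ DA V := by
    intro a haA
    have haN := o2_le _ haA
    have hac : ∀ y ∈ D₀, a * y = y * a := fun y hy => (mem_centralizer_iff.1 haN y hy).symm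
    refine h.cent_DA hG hH hk i (mem_centralizer_iff.2 fun y hy => ?_)
    refine (cent_of_closure ?_ hy).symm
    rintro x ⟨l, hx⟩
    by_cases hli : l = i
    · subst hli
      have hw : a * x * a⁻¹ * x⁻¹ ∈ DD V l :=
        mul_mem (h.norm_DD (v := v) (fun u hu => (mem_centralizer_iff.1 (hNU haN) u hu).symm) hx) (inv_mem hx)
      have h1 : a * x * a⁻¹ * x⁻¹ = 1 := by
        refine h.fix_bot (A := YY V) (h.YY_two hH hk) h.S_norm_YY (h.DD_le_YY hk hw) fun m => ?_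
        by_cases hml : m = l
        · subst hml
          refine cent_of_XX fun p hp hp1 g hg => ?_
          have e1 := h.KK_act hp hg (hN0 p hp hp1 haA)
          have e2 := h.KK_act hp hg (h.DA_le_qz hH hk hp hp1 (DD_le_DA hx))
          have c1 : Commute p a := (hac p (hVD0 hp)).symm
          have c2 : Commute p x := h.DD_comm hk (V_le_DD' hp) hx
          have hpp := h.sq m p hp
          apply comm_of_conj
          have e3 : g * (a * x * a⁻¹ * x⁻¹) * g⁻¹ =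
              (g * a * g⁻¹) * (g * x * g⁻¹) * (g * a * g⁻¹)⁻¹ * (g * x * g⁻¹)⁻¹ := by group
          rw [e3]
          have k1 : ∀ y : G, Commute p y → (p * a) * y * (p * a)⁻¹ = a * y * a⁻¹ := by
            intro y hy
            have k2 : Commute p (a * y * a⁻¹) := (c1.mul_right hy).mul_right c1.inv_right
            calc (p * a) * y * (p * a)⁻¹ = p * (a * y * a⁻¹) * p⁻¹ := by group
              _ = a * y * a⁻¹ := by rw [k2.eq, mul_inv_cancel_right]
          have k3 : a * (p * x) * a⁻¹ * (p * x)⁻¹ = a * x * a⁻¹ * x⁻¹ := by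
            calc a * (p * x) * a⁻¹ * (p * x)⁻¹ = (a * p) * x * a⁻¹ * x⁻¹ * p⁻¹ := by group
              _ = p * (a * x * a⁻¹ * x⁻¹) * p⁻¹ := by rw [← c1.eq]; group
              _ = a * x * a⁻¹ * x⁻¹ := by
                  have k2 : Commute p (a * x * a⁻¹ * x⁻¹) :=
                    ((c1.mul_right c2).mul_right c1.inv_right).mul_right c2.inv_right
                  rw [k2.eq, mul_inv_cancel_right]
          rcases e1 with e1 | e1 <;> rcases e2 with e2 | e2 <;> rw [e1, e2]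
          · exact k3
          · rw [k1 x c2]
          · rw [k1 (p * x) ((Commute.refl p).mul_right c2)]
            exact k3
        · intro g hg
          exact h.cent_DD hml g hg _ hw
      calc a * x = (a * x * a⁻¹ * x⁻¹) * (x * a) := by group
        _ = x * a := by rw [h1, one_mul]
    · exact hac x (hDoD0 (DD_le_Do hli hx))
  have hEq : o2 (centralizer (D₀ : Set G)) = DA V := le_antisymm hA0 hDA0
  rw [← hEq]
  exact norm_o2 (norm_cent (hcp v hv hv1))

/-- **END, `k' = 1`.** -/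
theorem kill_one (hG : IsCharacteristicTwoType G) (hH : H2 V) (hk : ∀ i j : ι, ∃ l, l ≠ i ∧ l ≠ j) {z : G}
    (hz : z ∈ zc (S : Subgroup G)) (hz1 : z ≠ 1) (hzu : ∀ x ∈ zc (S : Subgroup G), x = 1 ∨ x = z)
    (hzi : ∀ i, ∃ a ∈ V i, ∃ c ∈ Vo V i, a ≠ 1 ∧ z = a * c)
    {i : ι} {v : G} (hv : v ∈ V i) (hv1 : v ≠ 1) {T : Sylow 2 G} (hT : (T : Subgroup G) ≤ cz v) : False := by
  obtain ⟨w, hw, x₀, hx₀, hwx⟩ := h.WV i v hv hv1
  have hvv := h.sq i v hv
  have hzS : z ∈ (S : Subgroup G) := (mem_zc.1 hz).1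
  have hzc : ∀ s ∈ (S : Subgroup G), s * z = z * s := (mem_zc.1 hz).2.1
  have hzz : z ^ 2 = 1 := (mem_zc.1 hz).2.2
  have hvT : v ∈ (T : Subgroup G) := by
    have h1 : zpowers v ≤ (T : Subgroup G) := by
      refine MinPar.le_of_le_normalizer T ?_ ?_
      · refine isPGroup_of_sq fun x hx => ?_
        rcases (mem_zpowers_iff_of_sq hvv).1 hx with rfl | rfl
        · simp
        · exact hvv
      · apply norm_of
        intro t ht x hx
        rcases (mem_zpowers_iff_of_sq hvv).1 hx with rfl | rfl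
        · simp
        · rw [conj_of_comm (mem_cent.1 (hT ht))]; exact hx
    exact h1 (mem_zpowers v)
  have hVi : (⨆ i, V i) ≤ DA V := iSup_le fun i => V_le_DA
  refine End.one (S := S) (S' := T) (DD := DA V) (DD V) (v := v) (z := z) (w := w) (x₀ := x₀) ?_ (fun i => DD_le_DA)
    (fun x hx y hy => h.DA_comm hH hk hx hy) ?_ ?_ ?_ (hVi (h.zS hz)) ?_ ?_ hv1 hvv hvT
    (fun s hs => mem_cent.1 (hT hs)) ?_ ?_ ?_ (V_le_DA hx₀) hwx
  · -- `DA ≤ ⨆ D_i`
    rw [DA, closure_le]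
    rintro x ⟨j, hx⟩
    exact le_iSup (DD V) j hx
  · -- disjoint
    intro j l hjl
    rw [eq_bot_iff]
    rintro x ⟨hx1, hx2⟩
    refine mem_bot.2 (h.fix_bot (A := YY V) (h.YY_two hH hk) h.S_norm_YY (h.DD_le_YY hk hx1) fun m g hg => ?_)
    by_cases hmj : m = j
    · subst hmj; exact h.cent_DD hjl g hg x hx2
    · exact h.cent_DD hmj g hg x hx1
  · intro s hs j
    obtain ⟨l, -, hl⟩ := h.perm_DD hs j
    exact ⟨l, hl⟩
  · intro j
    obtain ⟨a, ha, b, hb, ha1, hb1, hab⟩ := h.exists_two j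
    exact ⟨a, V_le_DD' ha, b, V_le_DD' hb, hab, ha1, hb1⟩
  · -- `z ∉ D_j`
    intro j hzj
    obtain ⟨l, hlj, -⟩ := hk j j
    obtain ⟨a, ha, c, hc, ha1, rfl⟩ := hzi l
    obtain ⟨a', ha', ha1', haa'⟩ := h.exists_other (i := l) a
    obtain ⟨g, hg, h1⟩ := h.move ha' ha ha1' ha1 (Ne.symm haa')
    have h2 : g * (a * c) = a * c * g := h.cent_DD hlj g (KK_le_XX ha' ha1' hg) _ hzj
    have h3 : g * c = c * g := by
      refine cent_of_closure ?_ hc
      rintro y ⟨m, hm, hy⟩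
      exact mem_cent.1 (h.X_le hm hy (KK_le_XX ha' ha1' hg))
    have h4 : g * a = a * g := by
      have h5 : g * a * c = a * g * c := by
        calc g * a * c = g * (a * c) := by group
          _ = a * (c * g) := by rw [h2]; group
          _ = a * g * c := by rw [← h3]; group
      exact mul_right_cancel h5
    rw [conj_of_comm h4] at h1
    exact ha1' (mul_eq_right.1 h1.symm)
  · intro x hx hxx hxc
    exact hzu x (mem_zc.2 ⟨hx, hxc, by rw [pow_two]; exact hxx⟩)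
  · intro c hc x hx
    exact conj_mem (h.norm_cz hG hH hk hv hv1) (mem_cent.2 hc) hx
  · intro x hx
    exact h.KK_act hv hw (h.DA_le_qz hH hk hv hv1 hx)
  · -- `m⁻¹ w m ∈ S`
    intro m hm
    have h1 : m⁻¹ * w * m ∈ KK z := by
      have h2 := KK_conj (h := m⁻¹) hw
      have e : m⁻¹ * v * m⁻¹⁻¹ = z := by rw [← hm]; group
      rw [e, inv_inv] at h2
      exact h2
    have h2 : KK z ≤ qz z :=
      KK_le_o2 (by rw [← pow_two]; exact hzz) (MinSimple.Basic.char2_centralizer hG hzz hz1)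
    have h3 : qz z ≤ (S : Subgroup G) :=
      MinPar.le_of_le_normalizer S (o2_isPGroup _) fun s hs =>
        le_normalizer_o2 _ (mem_cent.2 (hzc s hs))
    exact h3 (h2 h1)

end Fr

end Cfsg.Agent.Omega.IId.Big

end

section


/-!
# WrBig, `q = 2`: the plug

* `CaseB` : (H2) holds in a frame with `k ≥ 3` natural factors (partner-free);
* `killTwo`, `killOne` : END of THEOREM A (#16750, #17530; helper428) for `k' ≥ 2` resp. `k' = 1`;
* `two_false`, `wrBigTwo_of` : `WrBigTwo K` from THEOREM C and CASE B;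
* `wrBigTwo_of_cases` : the same with CASE 1 (`stab M i` Sylow in `N_G(line M i)`, `WrBigTwoSyl`) separated, CASE B only
  in CASE 2 (`CaseBN`).
-/

set_option autoImplicit false
set_option linter.unusedSectionVars false

namespace Cfsg.Agent.Omega.IId.Big

open Subgroup Pointwise Cfsg Cfsg.Agent.ZN Cfsg.Agent.ZN.ChoiceBase
open Cfsg.Agent.Omega.MinPar Cfsg.Agent.Omega.Frame Cfsg.Agent.Omega.FFThm Cfsg.Agent.Omega.FrameMulti
open Triangle (KK mem_cent)
open Supply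

universe u

/-- **CASE B**: (H2) for `k ≥ 3` natural factors over the field of order 2. -/
def CaseB : Prop :=
  ∀ (G : Type u) [Group G] [Finite G] (S : Sylow 2 G) (P : Subgroup G) (F : Type) [Field F] [Finite F]
    [CharP F 2] (k : ℕ) (M : NatK F (S : Subgroup G) P (zl (S : Subgroup G) P) ⊥ k),
    IsCharacteristicTwoType G → IsParS (S : Subgroup G) P → CC M → Nat.card F = 2 →
      Fr (S : Subgroup G) (fac M) → 2 < k → H2 (fac M)

section

variable {G : Type u} [Group G] [Finite G] {F : Type} [Field F] [Finite F] [CharP F 2] {S : Sylow 2 G}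
  {P : Subgroup G} {k : ℕ}

omit [Finite G] [Finite F] [CharP F 2] in
theorem part_le_of (M : NatK F (S : Subgroup G) P (zl (S : Subgroup G) P) ⊥ k) (s : Finset (Fin k))
    {B : Subgroup G} (hB : ∀ l ∈ s, fac M l ≤ B) : part M (s : Set (Fin k)) ≤ B := by
  classical
  induction s using Finset.induction_on with
  | empty => rw [Finset.coe_empty, part_empty]; exact bot_le
  | insert i s _ ih =>
    intro v hv
    obtain ⟨a, ha, h1, h2⟩ := exists_component M hv.1 i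
    have h3 : a⁻¹ * v ∈ part M (s : Set (Fin k)) := by
      refine ⟨h2.1, fun j hj => ?_⟩
      by_cases hji : j = i
      · exact h2.2 j (fun h => h hji)
      · rw [M.mul _ (inv_mem ha.1) _ hv.1, e_inv M ha.1, Pi.add_apply, Pi.neg_apply,
          ha.2 j hji, hv.2 j (fun h => by
            rw [Finset.coe_insert, Set.mem_insert_iff] at h
            rcases h with h | h
            · exact hji h
            · exact hj h), neg_zero, add_zero]
    have h4 : v = a * (a⁻¹ * v) := by group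
    rw [h4]
    exact mul_mem (hB i (Finset.mem_insert_self _ _) ha)
      (ih (fun l hl => hB l (Finset.mem_insert_of_mem hl)) h3)

omit [Finite G] [Finite F] [CharP F 2] in
theorem part_compl_le (M : NatK F (S : Subgroup G) P (zl (S : Subgroup G) P) ⊥ k) (i : Fin k) :
    part M {i}ᶜ ≤ Vo (fac M) i := by
  classical
  have h := part_le_of M (Finset.univ.erase i) (B := Vo (fac M) i)
    (fun l hl => le_Vo (V := fac M) (Finset.ne_of_mem_erase hl))
  have e : ((Finset.univ.erase i : Finset (Fin k)) : Set (Fin k)) = {i}ᶜ := by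
    ext j
    simp
  rwa [e] at h

theorem three_blocks (hk : 2 < k) (i j : Fin k) : ∃ l, l ≠ i ∧ l ≠ j := by
  by_contra hcon
  push Not at hcon
  have h1 : (Finset.univ : Finset (Fin k)) ⊆ {i, j} := by
    intro l _
    rw [Finset.mem_insert, Finset.mem_singleton]
    by_cases h : l = i
    · exact Or.inl h
    · exact Or.inr (hcon l h)
  have h2 := Finset.card_le_card h1
  have h3 : ({i, j} : Finset (Fin k)).card ≤ 2 := Finset.card_le_two
  rw [Finset.card_univ, Fintype.card_fin] at h2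
  omega

/-- END of THEOREM A, `k' ≥ 2`. -/
theorem killTwo (M : NatK F (S : Subgroup G) P (zl (S : Subgroup G) P) ⊥ k)
    (hc : IsCharacteristicTwoType G) (hfr : Fr (S : Subgroup G) (fac M)) (hk : 2 < k) (hH : H2 (fac M))
    {i : Fin k} {v : G} (hv : v ∈ fac M i) (hv1 : v ≠ 1) {A B : Subgroup G} (h : Part (fac M i) v A B) :
    False := by
  obtain ⟨b₁, hb₁, b₂, hb₂, h1, h2, h12⟩ := h.two
  obtain ⟨a, ha, x, hx, hax⟩ := h.ne
  exact hfr.kill_two hc hH (three_blocks hk) hv hv1 h.vA hb₁ hb₂ h1 h2 h12 h.Bc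
    (fun b hb hb1 => ⟨h.Aq b hb hb1, h.Ac b hb hb1⟩) ha hx hax

/-- END of THEOREM A, `k' = 1`. -/
theorem killOne (M : NatK F (S : Subgroup G) P (zl (S : Subgroup G) P) ⊥ k)
    (hc : IsCharacteristicTwoType G) (hP : IsParS (S : Subgroup G) P) (hF : Nat.card F = 2)
    (hfr : Fr (S : Subgroup G) (fac M)) (hk : 2 < k) (hH : H2 (fac M))
    {i : Fin k} {v : G} (hv : v ∈ fac M i) (hv1 : v ≠ 1) {T : Sylow 2 G}
    (hT : (T : Subgroup G) ≤ centralizer ({v} : Set G)) : False := by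
  classical
  obtain ⟨x, z, B, hx⟩ := ThmC.TwoOf.exists_blk hF hc hP M (by omega)
  have hzV : z ∈ zl (S : Subgroup G) P := by
    have h1 := B.zV
    rwa [ThmC.TwoOf.iSup_fac] at h1
  have hVA : zl (S : Subgroup G) P ≤ zc (o2 P) :=
    Cfsg.Agent.MinSimple.VModule.zl_le_zc hP.le S.isPGroup'
      (MinSimple.Basic.not_dvd_relIndex S hP.le) (IsLoc.char2 S hc hP.isLoc)
  have hzc : zc (S : Subgroup G) ≤ zl (S : Subgroup G) P := zc_le_zl
  have hzS : z ∈ (S : Subgroup G) := B.QS (zc_le _ (hVA hzV))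
  refine hfr.kill_one hc hH (three_blocks hk) (z := z)
    (ZN.mem_zc.2 ⟨hzS, B.zS, by rw [pow_two]; exact sq M hzV⟩) B.z1 (fun y hy => ?_) (fun j => ?_) hv hv1 hT
  · exact B.fix y (hVA (hzc hy)) (ZN.mem_zc.1 hy).2.1
  · obtain ⟨a, ha, h1, h2⟩ := exists_component M hzV j
    refine ⟨a, ha, a⁻¹ * z, part_compl_le M j h2, fun h0 => B.z1 ?_, by group⟩
    rw [h0, e_one] at h1
    exact eq_one_of_cent M hzV B.zS h1.symm

end

section

variable {G : Type u} [Group G] [Finite G] {F : Type} [Field F] [Finite F] [CharP F 2] {S : Sylow 2 G}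
  {P : Subgroup G} {k : ℕ} {F' : Type} [Field F'] [Finite F'] [CharP F' 2] {S' : Sylow 2 G}
  {P' : Subgroup G} {k' : ℕ}

/-- **`k ≥ 3`, `q = 2`**: the contradiction. -/
theorem two_false (hc : IsCharacteristicTwoType G) (hStmt : ThmC.Stmt G)
    (h : Pair S S' P P')
    (hT : NoOver (zl (S : Subgroup G) P) P) (hT' : NoOver (zl (S' : Subgroup G) P') P')
    (M : NatK F (S : Subgroup G) P (zl (S : Subgroup G) P) ⊥ k)
    (M' : NatK F' (S' : Subgroup G) P' (zl (S' : Subgroup G) P') ⊥ k') (hk : 2 < k) (hk' : 1 ≤ k')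
    (hF : Nat.card F = 2)
    (hR : ∃ i, ⁅zl (S : Subgroup G) P, zl (S' : Subgroup G) P'⁆ = line M i)
    (hH2 : CC M → Fr (S : Subgroup G) (fac M) → H2 (fac M)) : False := by
  obtain ⟨i, hi⟩ := hR
  obtain ⟨v, hv, hv1⟩ := exists_line M i
  obtain ⟨-, -, hcF, -⟩ := exists_partner hc h hT hT' M M' hk' hi
  have hC : CC M := ThmC.TwoOf.cc hStmt hc h.star M hF
  have hC' : CC M' := ThmC.TwoOf.cc hStmt hc h.star' M' (hcF.trans hF)
  have hfr : Fr (S : Subgroup G) (fac M) := fr_of hc h.star hC hF zc_le_zl (line_le M i hv) hv1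
    (exists_move hc h hT hT' hk' hC' hF hi hv hv1)
  have hH := hH2 hC hfr
  rcases Nat.lt_or_ge k' 2 with hk2 | hk2
  · have hk1 : k' = 1 := by omega
    exact killOne M hc h.star hF hfr hk hH (line_le M i hv) hv1
      (sylow_cent hc h hT hT' hk1 M' hF hi hv)
  · obtain ⟨A, B, hAB⟩ := exists_part hc h hT hT' hk2 hC' hF hi hv hv1
    exact killTwo M hc hfr hk hH (line_le M i hv) hv1 hAB

end

/-- **`WrBigTwo K`** from THEOREM C, CASE B and THEOREM A. -/
theorem wrBigTwo_of {K : Cls.{u}} (hStmt : ∀ (G : Type u) [Group G] [Finite G], ThmC.Stmt G)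
    (hB : CaseB.{u}) : WrBigTwo K := by
  intro G _ _ S S' hH P P' hp F F' _ _ _ _ _ _ k k' M M' hk hk' hF _ hcard
  have hc := hH.ctx.char2
  have hT := (hH.typed' hp).1.noOver
  have hT' := (hH.typed' hp).2.noOver
  obtain ⟨I, hI⟩ := exists_ind M hp.le (hp.off hc hT')
  obtain ⟨i, -, hi⟩ := hI.eq_line (hp.le.trans hp.star.le) (hcard.trans hF.symm)
  exact (two_false hc (hStmt G) hp hT hT' M M' hk hk' hF ⟨i, hi⟩ fun hC hfr =>
    hB G S P F k M hc hp.star hC hF hfr hk).elim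

/-- **CASE B in CASE 2**: (H2) for `k ≥ 3` natural factors over the field of order 2, `stab M i` not Sylow in
`C_G(v)`, `line M i = {1, v}`. -/
def CaseBN : Prop :=
  ∀ (G : Type u) [Group G] [Finite G] (S : Sylow 2 G) (P : Subgroup G) (F : Type) [Field F] [Finite F]
    [CharP F 2] (k : ℕ) (M : NatK F (S : Subgroup G) P (zl (S : Subgroup G) P) ⊥ k),
    IsCharacteristicTwoType G → IsParS (S : Subgroup G) P → CC M → Nat.card F = 2 →
      Fr (S : Subgroup G) (fac M) → 2 < k →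
      ∀ i, 2 ∣ (stab M i).relIndex (normalizer (line M i : Set G)) → H2 (fac M)

/-- **CASE 1** of `WrBigTwo K`. -/
def WrBigTwoSyl (K : Cls.{u}) : Prop :=
  ∀ (G : Type u) [Group G] [Finite G] (S S' : Sylow 2 G), Hyp K S → ∀ (P P' : Subgroup G), Pair S S' P P' →
    ∀ (F F' : Type) [Field F] [Finite F] [CharP F 2] [Field F'] [Finite F'] [CharP F' 2] (k k' : ℕ)
      (M : NatK F (S : Subgroup G) P (zl (S : Subgroup G) P) ⊥ k)
      (_ : NatK F' (S' : Subgroup G) P' (zl (S' : Subgroup G) P') ⊥ k'), 2 < k → 1 ≤ k' →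
      Nat.card F = 2 → Nat.card F' = 2 →
      ∀ i, ⁅zl (S : Subgroup G) P, zl (S' : Subgroup G) P'⁆ = line M i →
        ¬ 2 ∣ (stab M i).relIndex (normalizer (line M i : Set G)) → IsKnownSimple' G

/-- **`WrBigTwo K`** from THEOREM C, CASE 1 and CASE B in CASE 2. -/
theorem wrBigTwo_of_cases {K : Cls.{u}} (hStmt : ∀ (G : Type u) [Group G] [Finite G], ThmC.Stmt G)
    (h1 : WrBigTwoSyl K) (hB : CaseBN.{u}) : WrBigTwo K := by
  intro G _ _ S S' hH P P' hp F F' _ _ _ _ _ _ k k' M M' hk hk' hF hF' hcard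
  have hc := hH.ctx.char2
  have hT := (hH.typed' hp).1.noOver
  have hT' := (hH.typed' hp).2.noOver
  obtain ⟨I, hI⟩ := exists_ind M hp.le (hp.off hc hT')
  obtain ⟨i, -, hi⟩ := hI.eq_line (hp.le.trans hp.star.le) (hcard.trans hF.symm)
  by_cases hd : 2 ∣ (stab M i).relIndex (normalizer (line M i : Set G))
  · refine (two_false hc (hStmt G) hp hT hT' M M' hk hk' hF ⟨i, hi⟩ fun hC hfr => ?_).elim
    exact hB G S P F k M hc hp.star hC hF hfr hk i hd
  · exact h1 G S S' hH P P' hp F F' k k' M M' hk hk' hF hF' i hi hd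

end Cfsg.Agent.Omega.IId.Big

end

section


/-!
# WrBig, `q = 2`, CASE 2 is impossible (bb OMEGA 18977, helper245), III: the plug

`M : NatK F S P (zl S P) ⊥ k`, `|F| = 2`, `k ≥ 2`, `CC M` (THEOREM C), the frame `Fr S (fac M)`.

* `exists_sc` : the frame `Sc S O₂(P) (fac M) v`, `v i ∈ line M i`;
* `stab_sylow` : **CASE 2 is impossible** : `stab M i` contains a Sylow 2-subgroup of `N_G(line M i)`;
* `caseBN` : `CaseBN` of `Plug.lean`;
* `wrBigTwo_of_syl` : `WrBigTwo K` from THEOREM C and CASE 1.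
-/

set_option autoImplicit false
set_option linter.unusedSectionVars false

namespace Cfsg.Agent.Omega.IId.Big.Syl

open Subgroup Pointwise Cfsg Cfsg.Agent.ZN Cfsg.Agent.ZN.ChoiceBase
open Cfsg.Agent.MinSimple.VModule hiding le_normalizer_zl le_o2 le_normalizer_o2 mem_zc
open Cfsg.Agent.Omega.MinPar Cfsg.Agent.Omega.Frame Cfsg.Agent.Omega.FFThm Cfsg.Agent.Omega.FrameMulti
open Triangle (KK KK_conj KK_le_o2 mem_cent mem_KK mem_zpowers_iff_of_sq cent_conj o2_cent_conj)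
open Supply

universe u

/-- A maximal 2-subgroup is a Sylow 2-subgroup. -/
theorem not_dvd_of_max {G : Type*} [Group G] [Finite G] {T K : Subgroup G} (hT : IsPGroup 2 T) (hTK : T ≤ K)
    (hmax : ∀ R : Subgroup G, IsPGroup 2 R → R ≤ K → T ≤ R → R ≤ T) : ¬ 2 ∣ T.relIndex K := by
  have hp : Fact (Nat.Prime 2) := ⟨Nat.prime_two⟩
  obtain ⟨R, hR⟩ := (hT.comap_subtype (K := K)).exists_le_sylow
  have h1 : (R : Subgroup K) = T.subgroupOf K := by
    refine le_antisymm (fun r hr => ?_) hR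
    have h2 := hmax ((R : Subgroup K).map K.subtype) (R.isPGroup'.map _) (map_subtype_le _)
      (fun u hu => ⟨⟨u, hTK hu⟩, hR (mem_subgroupOf.2 hu), rfl⟩)
    exact mem_subgroupOf.2 (h2 ⟨r, hr, rfl⟩)
  rw [relIndex, ← h1]
  exact R.not_dvd_index

section

variable {G : Type u} [Group G] [Finite G] {F : Type} [Field F] [Finite F] [CharP F 2] {S : Sylow 2 G}
  {P : Subgroup G} {k : ℕ} {M : NatK F (S : Subgroup G) P (zl (S : Subgroup G) P) ⊥ k}

/-- a 2-subgroup of `C_G(V)` normal in `C_G(V)` lies in `O₂(P)` -/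
theorem le_o2_of_cent (hc : IsCharacteristicTwoType G) (hP : IsParS (S : Subgroup G) P) {N : Subgroup G}
    (hN : IsPGroup 2 N) (hNC : N ≤ centralizer (zl (S : Subgroup G) P : Set G))
    (hn : centralizer (zl (S : Subgroup G) P : Set G) ≤ normalizer (N : Set G)) : N ≤ ZN.o2 P := by
  have hp : Fact (Nat.Prime 2) := ⟨Nat.prime_two⟩
  have hSP : (S : Subgroup G) ≤ P := hP.isLoc.le
  set C : Subgroup G := centralizer (zl (S : Subgroup G) P : Set G) with hC
  have h1 : N ≤ ZN.o2 C := le_o2 hNC hN hn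
  have hPC : P ≤ normalizer (C : Set G) := by
    apply norm_of
    intro p hp c hc
    refine mem_centralizer_iff.2 fun x hx => ?_
    have hx' : p⁻¹ * x * p ∈ zl (S : Subgroup G) P := by
      have := conj_mem (MinSimple.VModule.le_normalizer_zl (S : Subgroup G) P) (inv_mem hp) hx
      rwa [inv_inv] at this
    have h2 := mem_centralizer_iff.1 hc _ hx'
    calc x * (p * c * p⁻¹) = p * ((p⁻¹ * x * p) * c) * p⁻¹ := by group
      _ = p * c * p⁻¹ * x := by rw [h2]; group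
  have hPo : P ≤ normalizer (ZN.o2 C : Set G) := norm_o2 hPC
  have h2 : ZN.o2 C ≤ (S : Subgroup G) := by
    have h3 : IsPGroup 2 ((S : Subgroup G) ⊔ ZN.o2 C : Subgroup G) :=
      IsPGroup.to_sup_of_normal_right' S.isPGroup' (o2_isPGroup C) (hSP.trans hPo)
    rw [← S.is_maximal' h3 le_sup_left]
    exact le_sup_right
  exact h1.trans (le_o2 (h2.trans hSP) (o2_isPGroup C) hPo)

/-- **The frame.** -/
theorem exists_sc (hc : IsCharacteristicTwoType G) (hP : IsParS (S : Subgroup G) P) (hC : CC M)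
    (hF : Nat.card F = 2) (hfr : Fr (S : Subgroup G) (fac M)) :
    ∃ v : Fin k → G, (∀ i, v i ∈ line M i) ∧ Sc (S : Subgroup G) (ZN.o2 P) (fac M) v := by
  have hSP : (S : Subgroup G) ≤ P := hP.isLoc.le
  choose v hv hv1 using exists_line M
  have hSyl := MinSimple.Basic.not_dvd_relIndex S hP.le
  have hcP := IsLoc.char2 S hc hP.isLoc
  have hVA : zl (S : Subgroup G) P ≤ zc (ZN.o2 P) := zl_le_zc hP.le S.isPGroup' hSyl hcP
  have hline : ∀ s (hs : s ∈ (S : Subgroup G)) i, s * v i * s⁻¹ = v (sg M (hSP hs) i) := by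
    intro s hs i
    have h1 : s * v i * s⁻¹ ∈ line M (sg M (hSP hs) i) := by
      rw [← conj_line M hSP hs]
      exact ⟨v i, hv i, rfl⟩
    rcases mem_line_two M hF (hv _) (hv1 _) h1 with h2 | h2
    · exfalso
      apply hv1 i
      calc v i = s⁻¹ * (s * v i * s⁻¹) * s := by group
        _ = 1 := by rw [h2]; group
    · exact h2
  have hKS : ∀ i, KK (v i) ≤ (S : Subgroup G) := fun i =>
    (KK_le_o2 (fac_sq (line_le M i (hv i))) (cz_char2 hc (fac_sq (line_le M i (hv i))) (hv1 i))).trans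
      ((o2_le_stab hP hC hF (hv i) (hv1 i)).1.trans (stab_le M i))
  have hPo : P ≤ normalizer (ZN.o2 P : Set G) := le_normalizer_o2 P
  refine ⟨v, hv, ?_⟩
  refine
    { fr := hfr
      vV := fun i => line_le M i (hv i)
      v1 := hv1
      perm := ?_
      tr := ?_
      VK := fun i j p hp hp1 => (fac_le M j).trans (zl_le_KK hP hC hF hp hp1)
      KS := hKS
      QS := hP.isLoc.o2_le S
      QV := fun i x hx q hq => (MinSimple.VModule.mem_zc.1 (hVA hx.1)).2.1 q hq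
      QQ := ThmC.TwoOf.centralizer_o2_le hc S hP
      NQ := ?_
      KQ := ?_
      SQ := hSP.trans hPo }
  · intro s hs i
    refine ⟨sg M (hSP hs) i, fun x hx => ?_, hline s hs i⟩
    rw [← conj_fac M (hSP hs)]
    exact ⟨x, hx, rfl⟩
  · intro i j
    obtain ⟨s, hs, h1⟩ := exists_trans M hSP i j
    refine ⟨s, hs, ?_⟩
    rw [conj_fac M (hSP hs)] at h1
    rw [hline s hs i, fac_inj M h1]
  · intro N hN h1 h2
    refine le_o2_of_cent hc hP hN (fun n hn => mem_centralizer_iff.2 fun x hx => ?_) (norm_of fun c hcc n hn => ?_)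
    · have h3 : zl (S : Subgroup G) P ≤ centralizer ({n} : Set G) :=
        (fac_le_iSup M).trans (iSup_le fun i y hy => mem_cent.2 (h1 i y hy n hn).symm)
      exact mem_cent.1 (h3 hx)
    · exact h2 c (fun i x hx => (mem_centralizer_iff.1 hcc x hx.1).symm) n hn
  · intro i p hp hp1
    obtain ⟨g, hg, h1, -⟩ := exists_P_conj hSP (line_le M i (hv i)) (hv1 i) hp hp1
    refine le_trans (fun w hw => ?_) hPo
    have h2 := KK_conj (h := g⁻¹) hw
    rw [← h1] at h2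
    have e : g⁻¹ * (g * v i * g⁻¹) * g⁻¹⁻¹ = v i := by group
    rw [e] at h2
    have h3 := mul_mem (mul_mem hg (hSP (hKS i h2))) (inv_mem hg)
    have e2 : g * (g⁻¹ * w * g⁻¹⁻¹) * g⁻¹ = w := by group
    rwa [e2] at h3

/-- **CASE 2 is impossible**: `stab M i` is a Sylow 2-subgroup of `N_G(line M i)`. -/
theorem stab_sylow (hc : IsCharacteristicTwoType G) (hP : IsParS (S : Subgroup G) P) (hC : CC M)
    (hF : Nat.card F = 2) (hfr : Fr (S : Subgroup G) (fac M)) (hk : 2 ≤ k) (i : Fin k) :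
    ¬ 2 ∣ (stab M i).relIndex (normalizer (line M i : Set G)) := by
  have hSP : (S : Subgroup G) ≤ P := hP.isLoc.le
  obtain ⟨v, hv, h⟩ := exists_sc hc hP hC hF hfr
  have hnt : Nontrivial (Fin k) := Fin.nontrivial_iff_two_le.2 hk
  have h1 : stab M i = (S : Subgroup G) ⊓ cz (v i) := by
    apply le_antisymm
    · exact fun s hs => mem_inf.2 ⟨stab_le M i hs, mem_cent.2 (stab_comm_line M hSP hF (hv i) hs)⟩
    · intro s hs
      have hsi : s * v i = v i * s := mem_cent.1 hs.2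
      refine mem_inf.2 ⟨hs.1, mem_normalizer_iff.2 fun x => ⟨fun hx => h.fix_line hs.1 hsi hx, fun hx => ?_⟩⟩
      have h2 := h.fix_line (inv_mem hs.1) ((show Commute s (v i) from hsi).inv_left).eq hx
      have e : s⁻¹ * (s * x * s⁻¹) * s⁻¹⁻¹ = x := by group
      rwa [e] at h2
  rw [normalizer_line_eq M hF (hv i) (h.v1 i), h1]
  exact not_dvd_of_max (S.isPGroup'.to_le inf_le_left) inf_le_right fun R hR hRc hTR => h.sylow i hR hRc hTR

end

/-- **`CaseBN`**: CASE 2 is impossible. -/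
theorem caseBN : CaseBN.{u} := by
  intro G _ _ S P F _ _ _ k M hc hP hC hF hfr hk i hd
  exact absurd hd (stab_sylow hc hP hC hF hfr (by omega) i)

/-- **`WrBigTwo K`** from THEOREM C and CASE 1. -/
theorem wrBigTwo_of_syl {K : Cls.{u}} (hStmt : ∀ (G : Type u) [Group G] [Finite G], ThmC.Stmt G)
    (h1 : WrBigTwoSyl K) : WrBigTwo K := wrBigTwo_of_cases hStmt h1 caseBN

end Cfsg.Agent.Omega.IId.Big.Syl

end

section


/-!
# WrBig, `q = 2`: the cut of CASE 1 (helper110 #18842)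

* `UnmTwo K` : CASE 1 (`stab M i` Sylow in `N_G(line M i)`), `⟨V_i^{N(line M i)}⟩` nonabelian: contradiction (one member,
  no partner);
* `MixTwo K` : a pair of two members with the same number of factors, both in CASE 1 on the same line,
  `[V_i, V'_j] ≠ 1`, both `⟨V_i^{N(line)}⟩`, `⟨V'_j^{N(line)}⟩` abelian: contradiction;
* `wrBigTwoSyl_of`, `wrBigTwo_of_all`.
-/

set_option autoImplicit false
set_option linter.unusedSectionVars false

namespace Cfsg.Agent.Omega.IId.Big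

open Subgroup Pointwise Cfsg Cfsg.Agent.ZN Cfsg.Agent.ZN.ChoiceBase
open Cfsg.Agent.Omega.MinPar Cfsg.Agent.Omega.Frame Cfsg.Agent.Omega.FFThm Cfsg.Agent.Omega.FrameMulti
open Triangle (KK mem_cent)
open Supply

universe u

/-- **CASE 1, unmixed**: `⟨V_i^{N(line M i)}⟩` is nonabelian. (helper110, 730, 813, 924) -/
def UnmTwo (K : Cls.{u}) : Prop :=
  ∀ (G : Type u) [Group G] [Finite G] (S : Sylow 2 G), Hyp K S → ∀ (P : Subgroup G) (F : Type) [Field F]
    [Finite F] [CharP F 2] (k : ℕ) (M : NatK F (S : Subgroup G) P (zl (S : Subgroup G) P) ⊥ k),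
    IsParS (S : Subgroup G) P → CC M → Nat.card F = 2 → Fr (S : Subgroup G) (fac M) → 2 < k →
      ∀ i, ¬ 2 ∣ (stab M i).relIndex (normalizer (line M i : Set G)) →
        (∃ c ∈ normalizer (line M i : Set G), ∃ a ∈ fac M i, ∃ b ∈ fac M i,
          a * (c * b * c⁻¹) ≠ c * b * c⁻¹ * a) → False

/-- **CASE 1, mixed**: both members are in CASE 1 on the same line, both closures are abelian. (helper349) -/
def MixTwo (K : Cls.{u}) : Prop :=
  ∀ (G : Type u) [Group G] [Finite G] (S S' : Sylow 2 G), Hyp K S → ∀ (P P' : Subgroup G), Pair S S' P P' →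
    ∀ (F F' : Type) [Field F] [Finite F] [CharP F 2] [Field F'] [Finite F'] [CharP F' 2] (k : ℕ)
      (M : NatK F (S : Subgroup G) P (zl (S : Subgroup G) P) ⊥ k)
      (M' : NatK F' (S' : Subgroup G) P' (zl (S' : Subgroup G) P') ⊥ k), CC M → CC M' → Nat.card F = 2 →
      Nat.card F' = 2 → Fr (S : Subgroup G) (fac M) → Fr (S' : Subgroup G) (fac M') → 2 < k →
      ∀ i j, line M i = line M' j → ⁅zl (S : Subgroup G) P, zl (S' : Subgroup G) P'⁆ = line M i →
        ¬ 2 ∣ (stab M i).relIndex (normalizer (line M i : Set G)) →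
        ¬ 2 ∣ (stab M' j).relIndex (normalizer (line M' j : Set G)) →
        (∃ a ∈ fac M i, ∃ b ∈ fac M' j, a * b ≠ b * a) →
        (∀ c ∈ normalizer (line M i : Set G), ∀ a ∈ fac M i, ∀ b ∈ fac M i,
          a * (c * b * c⁻¹) = c * b * c⁻¹ * a) →
        (∀ c ∈ normalizer (line M' j : Set G), ∀ a ∈ fac M' j, ∀ b ∈ fac M' j,
          a * (c * b * c⁻¹) = c * b * c⁻¹ * a) → False

section

variable {G : Type u} [Group G] [Finite G]

/-- two 2-subgroups of `N`, `T` Sylow in `N`, `|T'| ≤ |T|`; if `|T'| < |T|` then `T'` is not Sylow in `N`. -/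
theorem card_le_of_syl {T T' N : Subgroup G} (hTN : T ≤ N) (hT2 : IsPGroup 2 T) (hT'N : T' ≤ N)
    (hT'2 : IsPGroup 2 T') (h : ¬ 2 ∣ T.relIndex N) :
    Nat.card T' ≤ Nat.card T ∧ (Nat.card T' < Nat.card T → 2 ∣ T'.relIndex N) := by
  have : Fact (Nat.Prime 2) := ⟨Nat.prime_two⟩
  obtain ⟨a, ha⟩ := IsPGroup.iff_card.1 hT2
  obtain ⟨b, hb⟩ := IsPGroup.iff_card.1 hT'2
  have h1 := Lib.SylowNormalInf.card_mul_relIndex T N hTN
  have h2 := Lib.SylowNormalInf.card_mul_relIndex T' N hT'N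
  have h3 : 2 ^ b * T'.relIndex N = 2 ^ a * T.relIndex N := by rw [← hb, ← ha, h1, h2]
  have hco : Nat.Coprime (2 ^ b) (T.relIndex N) :=
    Nat.Coprime.pow_left b ((Nat.Prime.coprime_iff_not_dvd Nat.prime_two).2 h)
  have h4 : 2 ^ b ∣ 2 ^ a := hco.dvd_of_dvd_mul_right (h3 ▸ Dvd.intro _ rfl)
  have hba : b ≤ a := (Nat.pow_dvd_pow_iff_le_right (by norm_num)).1 h4
  refine ⟨by rw [ha, hb]; exact Nat.pow_le_pow_right (by norm_num) hba, fun hlt => ?_⟩
  have hlt' : b < a := by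
    rw [ha, hb] at hlt
    exact (Nat.pow_lt_pow_iff_right (by norm_num)).1 hlt
  obtain ⟨c, rfl⟩ : ∃ c, a = b + (c + 1) := ⟨a - b - 1, by omega⟩
  have h5 : 2 ^ b * T'.relIndex N = 2 ^ b * (2 ^ (c + 1) * T.relIndex N) := by
    rw [h3, pow_add]
    ring
  have h6 := Nat.eq_of_mul_eq_mul_left (by positivity) h5
  rw [h6]
  exact Dvd.dvd.mul_right (dvd_pow_self 2 (by omega)) _

end

/-- **CASE 1** from `UnmTwo`, `MixTwo` and CASE B in CASE 2. -/
theorem wrBigTwoSyl_of {K : Cls.{u}} (hStmt : ∀ (G : Type u) [Group G] [Finite G], ThmC.Stmt G)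
    (hB : CaseBN.{u}) (hU : UnmTwo K) (hM : MixTwo K) : WrBigTwoSyl K := by
  intro G _ _ S S' hH P P' hp F F' _ _ _ _ _ _ k k' M M' hk hk' hF hF' i hi hd
  exfalso
  have hc := hH.ctx.char2
  have hT := (hH.typed' hp).1.noOver
  have hT' := (hH.typed' hp).2.noOver
  obtain ⟨j, hl, -, a, ha, b, hb, hne⟩ := exists_partner hc hp hT hT' M M' hk' hi
  obtain ⟨v, hv, hv1⟩ := exists_line M i
  have hv' : v ∈ line M' j := hl ▸ hv
  have hC : CC M := ThmC.TwoOf.cc (hStmt G) hc hp.star M hF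
  have hC' : CC M' := ThmC.TwoOf.cc (hStmt G) hc hp.star' M' hF'
  have hi' : ⁅zl (S' : Subgroup G) P', zl (S : Subgroup G) P⁆ = line M' j := by
    rw [commutator_comm, hi, hl]
  have hSP := hp.star.isLoc.le
  have hSP' := hp.star'.isLoc.le
  -- the number of factors
  have hTN : stab M i ≤ normalizer (line M i : Set G) := fun x hx => stab_normalizes_line M hSP i hx
  have hTN' : stab M' j ≤ normalizer (line M i : Set G) := by
    rw [hl]
    exact fun x hx => stab_normalizes_line M' hSP' j hx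
  have hT2 : IsPGroup 2 (stab M i) := S.isPGroup'.to_le (stab_le M i)
  have hT2' : IsPGroup 2 (stab M' j) := S'.isPGroup'.to_le (stab_le M' j)
  obtain ⟨hle, hlt⟩ := card_le_of_syl hTN hT2 hTN' hT2' hd
  have hSS : Nat.card (S' : Subgroup G) = Nat.card (S : Subgroup G) := by
    rw [S.card_eq_multiplicity, S'.card_eq_multiplicity]
  have e1 := card_stab M hSP i
  have e2 := card_stab M' hSP' j
  have hpos : 0 < Nat.card (stab M i) := Nat.card_pos
  have hpos' : 0 < Nat.card (stab M' j) := Nat.card_pos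
  have hkk : k ≤ k' := by
    by_contra hcon
    push Not at hcon
    have h1 : k' * Nat.card (stab M' j) < k * Nat.card (stab M i) :=
      lt_of_lt_of_le (Nat.mul_lt_mul_of_pos_right hcon hpos') (Nat.mul_le_mul_left k hle)
    omega
  rcases Nat.lt_or_ge k k' with hlt' | hge
  · -- `M'` is in CASE 2
    have hcard : Nat.card (stab M' j) < Nat.card (stab M i) := by
      by_contra hcon
      push Not at hcon
      have h1 : k * Nat.card (stab M i) < k' * Nat.card (stab M' j) :=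
        lt_of_lt_of_le (Nat.mul_lt_mul_of_pos_right hlt' hpos) (Nat.mul_le_mul_left k' hcon)
      omega
    have hd' : 2 ∣ (stab M' j).relIndex (normalizer (line M' j : Set G)) := by
      rw [← hl]
      exact hlt hcard
    exact two_false hc (hStmt G) hp.symm hT' hT M' M (by omega) (by omega) hF' ⟨j, hi'⟩ fun hC' hfr' =>
      hB G S' P' F' k' M' hc hp.star' hC' hF' hfr' (by omega) j hd'
  · obtain rfl : k' = k := le_antisymm hge hkk
    have hcard : Nat.card (stab M' j) = Nat.card (stab M i) := by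
      refine Nat.eq_of_mul_eq_mul_left (by omega : 0 < k') ?_
      rw [← e1, ← e2, hSS]
    have hd' : ¬ 2 ∣ (stab M' j).relIndex (normalizer (line M' j : Set G)) := by
      rw [← hl]
      have h1 := Lib.SylowNormalInf.card_mul_relIndex _ _ hTN
      have h2 := Lib.SylowNormalInf.card_mul_relIndex _ _ hTN'
      have h3 : (stab M' j).relIndex (normalizer (line M i : Set G)) =
          (stab M i).relIndex (normalizer (line M i : Set G)) := by
        refine Nat.eq_of_mul_eq_mul_left hpos ?_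
        rw [h1, ← h2, hcard]
      rwa [h3]
    have hfr : Fr (S : Subgroup G) (fac M) := fr_of hc hp.star hC hF zc_le_zl (line_le M i hv) hv1
      (exists_move hc hp hT hT' hk' hC' hF hi hv hv1)
    have hfr' : Fr (S' : Subgroup G) (fac M') := fr_of hc hp.star' hC' hF' zc_le_zl (line_le M' j hv') hv1
      (exists_move hc hp.symm hT' hT (by omega) hC hF' hi' hv' hv1)
    by_cases hab : ∃ c ∈ normalizer (line M i : Set G), ∃ a ∈ fac M i, ∃ b ∈ fac M i,
        a * (c * b * c⁻¹) ≠ c * b * c⁻¹ * a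
    · exact hU G S hH P F _ M hp.star hC hF hfr hk i hd hab
    by_cases hab' : ∃ c ∈ normalizer (line M' j : Set G), ∃ a ∈ fac M' j, ∃ b ∈ fac M' j,
        a * (c * b * c⁻¹) ≠ c * b * c⁻¹ * a
    · exact hU G S' (hH.conj S') P' F' _ M' hp.star' hC' hF' hfr' hk j hd' hab'
    push Not at hab hab'
    exact hM G S S' hH P P' hp F F' _ M M' hC hC' hF hF' hfr hfr' hk i j hl hi hd hd'
      ⟨a, ha, b, hb, fun h0 => hne h0.symm⟩ hab hab'

/-- **`WrBigTwo K`** from THEOREM C, CASE B in CASE 2, `UnmTwo` and `MixTwo`. -/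
theorem wrBigTwo_of_all {K : Cls.{u}} (hStmt : ∀ (G : Type u) [Group G] [Finite G], ThmC.Stmt G)
    (hB : CaseBN.{u}) (hU : UnmTwo K) (hM : MixTwo K) : WrBigTwo K :=
  wrBigTwo_of_cases hStmt (wrBigTwoSyl_of hStmt hB hU hM) hB

end Cfsg.Agent.Omega.IId.Big

end

end

-- merged: Cfsg.Agent.Mrg.Omega.IId.Big.Syl.Final
section

section


/-!
# WrBig, `q = 2`, CASE 1, unmixed: the end (bb #18842 (f))

* `Sit.otD` : 924's `OtD` at the line `V_j` over `T` (`X = ⟨KK v : v ∈ V_j#⟩`);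
* `Sit.unm_false`; **`unmTwo` : `UnmTwo K`**.
-/

set_option autoImplicit false
set_option linter.unusedSectionVars false

namespace Cfsg.Agent.Omega.IId.Big.Syl

open Subgroup Pointwise Cfsg Cfsg.Agent.ZN Cfsg.Agent.ZN.ChoiceBase
open Cfsg.Agent.Omega.MinPar Cfsg.Agent.Omega.FFThm Cfsg.Agent.Omega.FrameMulti
open Cfsg.Agent.MinSimple.VModule (o2_isPGroup)
open Triangle (KK KK_conj KK_le_o2 mem_cent mem_KK mem_zpowers_iff_of_sq cent_conj o2_cent_conj)
open Supply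
open Cfsg.Agent.Omega.BTwo (BT BTS WW QQ CenX pt)
open Cfsg.Agent.Omega.HT.OtCore (OtD)

universe u

variable {G : Type u} [Group G] [Finite G] {F : Type} [Field F] [Finite F] [CharP F 2] {S : Sylow 2 G}
  {P : Subgroup G} {k : ℕ} {M : NatK F (S : Subgroup G) P (zl (S : Subgroup G) P) ⊥ k}

/-- `OtD` at the line `V_j`. -/
theorem Sit.otD {j : Fin k} (h : Sit M j) {w : G} (hw : w ∈ line M j) (hw1 : w ≠ 1) :
    OtD (stab M j) (fac M j) (XX (fac M) j) w where
  T_p := h.T2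
  T_r t ht := h.T_comm hw ht
  odd := h.odd' hw hw1
  V_T := h.V_T
  V_sq := h.fr.sq j
  V_four v hv hv1 hvw x hx := by
    have hwj := line_le M j hw
    rcases h.fr.cases4 hwj hv hw1 hv1 (Ne.symm hvw) hx with h1 | h1 | h1 | h1
    · exact Or.inl h1
    · exact Or.inr (Or.inl h1)
    · exact Or.inr (Or.inr (Or.inl h1))
    · exact Or.inr (Or.inr (Or.inr (by rw [h1, h.fr.comm j j w hwj v hv])))
  r_mem := line_le M j hw
  r_ne := hw1
  T_V := h.T_V
  X_V := Sit.XX_V h.fr j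
  trans v hv hv1 := Sit.XX_trans h.fr (line_le M j hw) hv hw1 hv1
  zt := by
    obtain ⟨a, ha, b, hb, h1, h2⟩ := h.zt hw hw1
    exact ⟨a, ha, b, hb, h1, fun c hc hc2 hcc => h2 c hc hc2 fun t ht ht' => (hcc t ht ht').symm⟩

/-- **CASE 1, unmixed.** -/
theorem Sit.unm_false {i : Fin k} (h : Sit M i) {c : G} (hc : c ∈ normalizer (line M i : Set G))
    (hne : ∃ v ∈ fac M i, ∃ w ∈ fac M i, v * (c * w * c⁻¹) ≠ c * w * c⁻¹ * v) : False := by
  obtain ⟨N', o, b, hro, hcen⟩ := h.exists_bts hc hne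
  have I : Ins M i (pt N') o := { h with bts := b, ro := hro, cen := hcen }
  have hk := h.k2
  have hLE := Big.hLE h.c2 h.par h.cc h.two (by omega) h.fr b hro hcen h.odd (by
    obtain ⟨v, hv, w, hw, hvw⟩ := hne
    exact ⟨c, hc, v, hv, _, BTwo.conj_mem_cj hw, hvw⟩)
  obtain ⟨j, hij, hT, h'⟩ := h.exists_swap
  obtain ⟨z, hz, hz1, hzi, hzj⟩ := h.exists_z hij hT h'
  obtain ⟨r, hr, hr1⟩ := exists_line M i
  obtain ⟨w, hw, hw1⟩ := exists_line M j
  have hri := line_le M i hr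
  have hwj := line_le M j hw
  have hro' : ∀ x, x ∈ pt N' o ↔ x = 1 ∨ x = r := by
    intro x
    rw [hro, line_eq_zpowers M h.two hr hr1]
    exact mem_zpowers_iff_of_sq (h.fr.sq i r hri)
  have hz0 := I.mem_Z0 hz hzi
  have hw0 := I.mem_Z0 (hT ▸ h'.line_zc hw) (le_Vo (V := fac M) hij hwj)
  have h1 : OtD (stab M i) (fac M i) (BTwo.XX (fac M i) (pt N')) r := by
    refine HT.EndCore.otD I.htt hro' ?_
    obtain ⟨a, ha, b, hb, h1, h2⟩ := h.zt hr hr1
    exact ⟨a, ha, b, hb, h1, fun c hc hc2 hcc => h2 c hc hc2 fun t ht ht' => (hcc t ht ht').symm⟩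
  have h2 : OtD (stab M i) (fac M j) (XX (fac M) j) w := hT ▸ h'.otD hw hw1
  refine HT.EndCore.false_of I.htt hLE hro' h1 hz0 hz1 hw0 hw1 (fun e => hw1 ?_)
    (fun c hc hs => I.c_one hc hs) h2 (fun x hx => ?_) (fun x hx => ?_) fun H hTH hXH _ _ => ?_
  · exact Sit.eq_one_of_Vo h.fr hwj (e ▸ hzj)
  · exact mem_cent.1 (h.fr.X_le hij.symm hri hx)
  · exact mem_cent.1 (Sit.XX_Vo h.fr hzj hx)
  · exact h'.ot (by rw [hT]; exact hTH) hXH (Sit.XX_V h.fr j) fun v hv u hu hv1 hu1 =>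
      Sit.XX_trans h.fr hv hu hv1 hu1

end Cfsg.Agent.Omega.IId.Big.Syl

namespace Cfsg.Agent.Omega.IId.Big

open Subgroup Pointwise Cfsg Cfsg.Agent.ZN Cfsg.Agent.ZN.ChoiceBase
open Cfsg.Agent.Omega.MinPar Cfsg.Agent.Omega.Frame Cfsg.Agent.Omega.FFThm Cfsg.Agent.Omega.FrameMulti

universe u

/-- **WrBig, `q = 2`, CASE 1, unmixed.** -/
theorem unmTwo {K : Cls.{u}} : UnmTwo K := by
  intro G _ _ S hH P F _ _ _ k M hP hC hF hfr hk i hd ⟨c, hc, a, ha, b, hb, hne⟩
  exact (⟨hH.ctx.char2, hP, hC, hF, hk, hfr, hd⟩ : Syl.Sit M i).unm_false hc ⟨a, ha, b, hb, hne⟩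

end Cfsg.Agent.Omega.IId.Big

end

section


/-!
# WrBig, `q = 2`, CASE 1 on both sides: the mixed case is impossible (helper994 #17943 (2); helper110 #18842 (e))

`Sit M i`, `Sit M' i'` (`T = stab M i`, `T' = stab M' i'` Sylow 2-subgroups of `N_G(R)`, `R = line M i = line M' i'`),
`⟨V_i^{N(R)}⟩`, `⟨V'_{i'}^{N(R)}⟩` abelian, `[V_i, V'_{i'}] ≠ 1`.

* `Sit.zc_stab_le` : `Ω₁Z(T) ≤ V`; `Sit.split` : `Ω₁Z(T) ≤ R C(X_i)`, `X_i = grp M {i}`;
* `exists_block` : `stab M l = stab M i` for some `l ≠ i`; `Sit.exists_pair` : `|Ω₁Z(T) ∩ C(X_i)| ≥ 4`;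
* `Sit.cent_half` : `V_i ≤ Z(O₂(C_G(z)))` for `1 ≠ z ∈ Ω₁Z(T) ∩ C(X_i)`;
* `mixed_false`, `mixTwo`.
-/

set_option autoImplicit false
set_option linter.unusedSectionVars false

namespace Cfsg.Agent.Omega.IId.Big.Syl

open Subgroup Cfsg Cfsg.Agent.ZN Cfsg.Agent.ZN.ChoiceBase
open Cfsg.Agent.Lib.SL2Mat
open Cfsg.Agent.Omega.MinPar Cfsg.Agent.Omega.FFThm Cfsg.Agent.Omega.FrameMulti
open Cfsg.Agent.Omega.Frame (Cls)
open Cfsg.Agent.Omega.Mix (RMod LL)
open Cfsg.Agent.Omega.IId.FourSide (pre pre_e vec_ne)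
open Cfsg.Agent.Omega.IId.M4 (MixedT nmG toRMod toRMod_line LL_comm exists_cj_eq)
open Cfsg.Agent.Omega.IId.BigFour (BOne stab_le_nmG grp_le_nmG pre_line)
open Cfsg.Agent.Omega.ThmC (Dat S0 Md)

universe u

section side

variable {G : Type u} [Group G] [Finite G] {F : Type} [Field F] [Finite F] [CharP F 2] {S : Sylow 2 G}
  {P : Subgroup G} {k : ℕ} {M : NatK F (S : Subgroup G) P (zl (S : Subgroup G) P) ⊥ k} {i : Fin k}

/-- The stabiliser of a factor is the stabiliser of another factor. -/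
theorem exists_block (hSP : (S : Subgroup G) ≤ P) (hk : 2 ≤ k) (i : Fin k) :
    ∃ l, l ≠ i ∧ stab M l = stab M i := by
  have hfact : Fact (Nat.Prime 2) := ⟨Nat.prime_two⟩
  have hlt : stab M i < (S : Subgroup G) := by
    refine lt_of_le_of_ne (stab_le M i) fun e => ?_
    have h1 := card_stab M hSP i
    rw [e] at h1
    have h2 : 0 < Nat.card (S : Subgroup G) := Nat.card_pos
    nlinarith
  obtain ⟨s, hs, hsn⟩ := SetLike.exists_of_lt (Lib.GoldschmidtFusion.lt_inf_normalizer S.isPGroup' hlt)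
  have h1 := conj_stab M hSP hs.1 i
  have h2 : cj s (stab M i) = stab M i := mem_normalizer_iff_cj.1 hs.2
  refine ⟨sg M (hSP hs.1) i, fun h0 => hsn ?_, ?_⟩
  · exact ⟨hs.1, (mem_normalizer_fac_iff M (hSP hs.1)).2 h0⟩
  · rw [← h1, h2]

namespace Sit

variable (h : Sit M i)
include h

theorem one : BOne M i where
  c2T := h.c2
  par := h.par
  cc := h.cc
  QT := MinSimple.VModule.o2_le_of_sylow h.T2 h.odd

theorem zl_le_stab (j : Fin k) : zl (S : Subgroup G) P ≤ stab M j :=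
  (h.par.isLoc.zl_le S h.c2).trans ((MinSimple.VModule.zc_le _).trans (o2_le_stab' h.c2 h.par j))

/-- **`Ω₁Z(T) ≤ V`** -/
theorem zc_stab_le : zc (stab M i) ≤ zl (S : Subgroup G) P := by
  classical
  have hk := h.k2
  obtain ⟨Z, x, z, D, R, hz⟩ := exists_rd_of_fr h.c2 h.par h.cc h.two (by omega) h.fr
  have hι : ∀ i : Fin k, ∃ j, j ≠ i := by
    have : Nontrivial (Fin k) := Fin.nontrivial_iff_two_le.2 (by omega)
    exact fun i => exists_ne i
  intro e he
  obtain ⟨h1, h2, h3⟩ := MinSimple.VModule.mem_zc.1 he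
  have heE : e ∈ zc (S0 (S : Subgroup G) Z) := R.mem_E_of (T := stab M i) (le_inf Dat.S0_le (R.S0_norm i))
    (by rw [← pow_two]; exact h3) (fun t ht => (h2 t ht).symm)
  set c : Fin k → Md (S0 (S : Subgroup G) Z) := fun l => D.pX D.E_le D.pr_E l (Md.mk e heE) with hcdef
  have hsum : ∑ l, c l = Md.mk e heE := D.pX_sum (hX := D.E_le) (h := D.pr_E) (Md.mk e heE)
  have hcases : ∀ l, (c l).val = 1 ∨ (c l).val = z l := by
    intro l
    obtain ⟨j, hj⟩ := hι l
    exact R.one hj (Md.val_mem _) (D.pX_mem l _)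
  have h4 : (∑ l, c l).val ∈ zl (S : Subgroup G) P := by
    refine Dat.sum_mem _ _ fun l _ => ?_
    rcases hcases l with h5 | h5
    · rw [h5]; exact one_mem _
    · rw [h5]; exact ((line_le M l).trans (fac_le M l)) (hz l)
  rw [hsum] at h4
  exact h4

/-- `Ω₁Z(T) ≤ R C(grp M {i})` -/
theorem split {f : G} (hf : f ∈ zc (stab M i)) : ∃ u ∈ line M i, ∃ z, f = u * z ∧
    ∀ g ∈ grp M {i}, g * z = z * g := by
  have hfV := h.zc_stab_le hf
  obtain ⟨-, h2, -⟩ := MinSimple.VModule.mem_zc.1 hf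
  obtain ⟨a, ha, h3, h4⟩ := exists_component M hfV i
  refine ⟨a, fix_le_line M h.SP ha fun t ht => component_cent M h.SP hfV ha h3 ht (h2 t ht), a⁻¹ * f, by group,
    fun g hg => grp_comm M disjoint_compl_right hg h4⟩

/-- `|Ω₁Z(T) ∩ C(grp M {i})| ≥ 4` -/
theorem exists_pair : ∃ a d : G, (a ∈ zc (stab M i) ∧ ∀ g ∈ grp M {i}, g * a = a * g) ∧
    (d ∈ zc (stab M i) ∧ ∀ g ∈ grp M {i}, g * d = d * g) ∧ a ≠ 1 ∧ d ≠ 1 ∧ a * d ≠ 1 := by
  have hk := h.k2
  obtain ⟨l, hli, hst⟩ := exists_block (M := M) h.SP (by omega) i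
  obtain ⟨a, ha, ha1⟩ := exists_line M l
  have haV : a ∈ zl (S : Subgroup G) P := (line_le M l ha).1
  obtain ⟨j, hji, hjl⟩ := three_blocks hk i l
  -- the element of `Z(S)`
  obtain ⟨x, hx, hx1, hxS⟩ : ∃ x ∈ zl (S : Subgroup G) P, x ≠ 1 ∧ ∀ s ∈ (S : Subgroup G), s * x = x * s := by
    have hfact : Fact (Nat.Prime 2) := ⟨Nat.prime_two⟩
    have hne : zl (S : Subgroup G) P ≠ ⊥ := fun h0 => ha1 (by rwa [h0, mem_bot] at haV)
    obtain ⟨x, hx, hx1, hxS⟩ := Half.exists_fixed (V := zl (S : Subgroup G) P)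
      (isPGroup_of_sq fun x hx => sq M hx) hne S.isPGroup' (h.SP.trans (MinSimple.VModule.le_normalizer_zl _ _))
    exact ⟨x, hx, hx1, fun s hs => comm_of_conj (hxS s hs)⟩
  obtain ⟨b, hb, hb1, hb2⟩ := exists_component M hx i
  have hbT : ∀ t ∈ stab M i, t * b = b * t := fun t ht =>
    component_cent M h.SP hx hb hb1 ht (hxS t (stab_le M i ht))
  have hj : M.e x j ≠ 0 := fun h0 => hx1 (eq_one_of_cent M hx hxS h0)
  have hdj : M.e (b⁻¹ * x) j = M.e x j := by
    rw [M.mul _ (inv_mem hb.1) _ hx, e_inv M hb.1, Pi.add_apply, Pi.neg_apply, hb.2 j hji, neg_zero, zero_add]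
  have haj : M.e a j = 0 := (line_le M l ha).2 j hjl
  have hdV : b⁻¹ * x ∈ zl (S : Subgroup G) P := mul_mem (inv_mem hb.1) hx
  have hzc : ∀ y ∈ zl (S : Subgroup G) P, (∀ t ∈ stab M i, t * y = y * t) → y ∈ zc (stab M i) := fun y hy hyt =>
    MinSimple.VModule.mem_zc.2 ⟨h.zl_le_stab i hy, hyt, by rw [pow_two]; exact sq M hy⟩
  refine ⟨a, b⁻¹ * x, ⟨hzc a haV fun t ht => ?_, fun g hg => grp_comm M (Set.disjoint_singleton.2 (Ne.symm hli)) hg
    (line_le M l ha)⟩, ⟨hzc _ hdV fun t ht => ?_, fun g hg => grp_comm M disjoint_compl_right hg hb2⟩, ha1, ?_, ?_⟩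
  · rw [← hst] at ht
    exact stab_comm_line M h.SP h.two ha ht
  · have h1 := hbT t ht
    have h2 := hxS t (stab_le M i ht)
    calc t * (b⁻¹ * x) = b⁻¹ * (b * t) * b⁻¹ * x := by group
      _ = b⁻¹ * (t * b) * b⁻¹ * x := by rw [h1]
      _ = b⁻¹ * (t * x) := by group
      _ = b⁻¹ * x * t := by rw [h2]; group
  · intro h0
    apply hj
    rw [← hdj, h0, e_one]; rfl
  · intro h0
    apply hj
    have h1 : M.e (a * (b⁻¹ * x)) j = M.e x j := by
      rw [M.mul _ haV _ hdV, Pi.add_apply, haj, zero_add, hdj]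
    rw [← h1, h0, e_one]; rfl

/-- **`V_i ≤ Z(O₂(C_G(z)))`** for `1 ≠ z ∈ Ω₁Z(T) ∩ C(grp M {i})` -/
theorem cent_half {z : G} (hz : z ∈ zc (stab M i)) (hz1 : z ≠ 1) (hzg : ∀ g ∈ grp M {i}, g * z = z * g) :
    fac M i ≤ ZN.o2 (centralizer ({z} : Set G)) ∧
      ZN.o2 (centralizer ({z} : Set G)) ≤ centralizer (fac M i : Set G) := by
  obtain ⟨-, h2, h3⟩ := MinSimple.VModule.mem_zc.1 hz
  have hT : stab M i ≤ centralizer ({z} : Set G) := fun t ht => mem_centralizer_singleton_iff.2 (h2 t ht)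
  have h4 : ZN.o2 (centralizer ({z} : Set G)) ≤ centralizer (fac M i : Set G) := by
    refine h.ot (D := grp M {i}) hT (fun g hg => mem_centralizer_singleton_iff.2 (hzg g hg))
      (grp_normalizes M {i} {i}) fun v hv w hw hv1 hw1 => exists_grp M hv hw hv1 hw1
  refine ⟨?_, h4⟩
  refine le_trans ?_ (Supply.cz_char2 h.c2 (by rw [← pow_two]; exact h3) hz1)
  refine le_inf (((fac_le M i).trans (h.zl_le_stab i)).trans hT) fun v hv => ?_
  rw [mem_centralizer_iff]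
  exact fun x hx => (mem_centralizer_iff.1 (h4 hx) v hv).symm

end Sit

end side

section both

variable {G : Type u} [Group G] [Finite G] {F F' : Type} [Field F] [Finite F] [CharP F 2]
  [Field F'] [Finite F'] [CharP F' 2] {S S' : Sylow 2 G} {P P' : Subgroup G} {k k' : ℕ}
  {M : NatK F (S : Subgroup G) P (zl (S : Subgroup G) P) ⊥ k}
  {M' : NatK F' (S' : Subgroup G) P' (zl (S' : Subgroup G) P') ⊥ k'} {i : Fin k} {i' : Fin k'}

/-- `MixedT` for `fac M i` and a conjugate of `fac M' i'` -/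
theorem mixedT_of (h : Sit M i) (h' : Sit M' i') (hl : line M i = line M' i')
    (hne : ∃ v ∈ fac M i, ∃ w ∈ fac M' i', v * w ≠ w * v)
    (h1 : ∀ g ∈ normalizer (line M i : Set G), ∀ v ∈ fac M i, ∀ w ∈ fac M i,
      v * (g * w * g⁻¹) = g * w * g⁻¹ * v)
    (h2 : ∀ g ∈ normalizer (line M i : Set G), ∀ v ∈ fac M' i', ∀ w ∈ fac M' i',
      v * (g * w * g⁻¹) = g * w * g⁻¹ * v) :
    ∃ c ∈ normalizer (line M i : Set G), BTwo.cj c (stab M' i') = stab M i ∧
      MixedT (V₂ := BTwo.cj c (fac M' i')) (N₂ := BTwo.cj c (nmG (pre M' i'))) (toRMod (pre M i))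
        ((toRMod (pre M' i')).conj c) (line M i) (stab M i) := by
  set R := line M i with hRdef
  have hfact : Fact (Nat.Prime 2) := ⟨Nat.prime_two⟩
  -- a common Sylow 2-subgroup
  have hT' : stab M' i' ≤ normalizer (R : Set G) := by
    rw [hl]; exact stab_normalizes_line M' h'.SP i'
  have hT : stab M i ≤ normalizer (R : Set G) := stab_normalizes_line M h.SP i
  obtain ⟨c, hc, hcT⟩ : ∃ c ∈ normalizer (R : Set G), BTwo.cj c (stab M' i') = stab M i := by
    refine exists_cj_eq hT hT' h.T2 h'.T2 h.odd ?_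
    rw [hl]; exact h'.odd
  have hcR : BTwo.cj c R = R := BTwo.cj_eq_self_iff.2 hc
  have hM₂ : ∀ w, ((toRMod (pre M' i')).conj c).line w = BTwo.cj c ((toRMod (pre M' i')).line w) := fun w =>
    (toRMod (pre M' i')).conj_line c w
  have eLL : LL (BTwo.cj c (fac M' i')) R R = LL (fac M' i') R R := by
    have e1 := Mix.LL_conj c (fac M' i') R R
    rwa [hcR] at e1
  have cor1 := h.one.cor_nm
  have cor2 : NLFree.Cor R (fac M' i') (normalizer (R : Set G)) (nmG (pre M' i')) := by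
    have := h'.one.cor_nm
    rwa [← hl] at this
  refine ⟨c, hc, hcT, ⟨⟨![1, 0], vec_ne, ?_⟩, ⟨![1, 0], vec_ne, ?_⟩, h.T2, stab_le_nmG h.SP, ?_, hT, h.odd, ?_,
      LL_comm h1, ?_, ?_, ?_⟩⟩
  · rw [toRMod_line, pre_line]
  · have h5 := hM₂ ![1, 0]
    rw [toRMod_line, pre_line, ← hl, hcR] at h5
    exact h5.symm
  · rw [← hcT]
    exact BTwo.cj_mono (stab_le_nmG h'.SP)
  · exact fun K hK hK1 => Mix.char2_normalizer h.c2 hK hK1
  · rw [eLL]
    exact LL_comm h2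
  · rw [eLL]
    obtain ⟨v, hv, w, hw, hvw⟩ := hne
    exact ⟨v, Mix.V_le_LL _ _ hv, w, Mix.V_le_LL _ _ hw, hvw⟩
  · intro K hK k1 k2 k3
    have hc' : c ∈ normalizer (K : Set G) := k3 hc
    have k4 : nmG (pre M' i') ≤ normalizer (K : Set G) := by
      intro x hx
      have h3 := k2 (BTwo.conj_mem_cj (g := c) hx)
      have h4 := mul_mem (mul_mem (inv_mem hc') h3) hc'
      have e : c⁻¹ * (c * x * c⁻¹) * c = x := by group
      rwa [e] at h4
    refine NLFree.nonLoc_mixed h.c2 cor1 cor2 (fun r hr => ?_) hK k3 k1 k4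
    obtain ⟨v, hv, w, hw, hvw⟩ := hne
    have hwQ : w ∈ ZN.o2 (normalizer (line M i : Set G)) := by
      have := h'.one.fac_le_o2 hw
      rwa [← hl] at this
    obtain ⟨v', hv', e⟩ := h.one.line_le_comm hwQ ⟨v, hv, hvw⟩ hr
    exact subset_closure ⟨v', hv', w, hw, e.symm⟩

/-- **The mixed case is impossible** (CASE 1 on both sides, `q = 2`). -/
theorem mixed_false (h : Sit M i) (h' : Sit M' i') (hl : line M i = line M' i')
    (hne : ∃ v ∈ fac M i, ∃ w ∈ fac M' i', v * w ≠ w * v)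
    (h1 : ∀ g ∈ normalizer (line M i : Set G), ∀ v ∈ fac M i, ∀ w ∈ fac M i,
      v * (g * w * g⁻¹) = g * w * g⁻¹ * v)
    (h2 : ∀ g ∈ normalizer (line M i : Set G), ∀ v ∈ fac M' i', ∀ w ∈ fac M' i',
      v * (g * w * g⁻¹) = g * w * g⁻¹ * v) : False := by
  obtain ⟨c, hc, hcT, m⟩ := mixedT_of h h' hl hne h1 h2
  -- the generator of the line
  obtain ⟨r, hr, hr1⟩ := exists_line M i
  have mem_R : ∀ g, g ∈ line M i ↔ g = 1 ∨ g = r := by
    intro g
    constructor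
    · exact fun hg => mem_line_two M h.two hr hr1 hg
    · rintro (rfl | rfl)
      · exact one_mem _
      · exact hr
  set T := stab M i with hTdef
  -- the action of the conjugate of `grp M' {i'}`
  have key' : ∀ f ∈ zc T, ∃ u ∈ line M i, ∃ z, f = u * z ∧
      ∀ g ∈ BTwo.cj c (grp M' {i'}), g * z = z * g := by
    intro f hf
    have hf' : c⁻¹ * f * c ∈ zc (stab M' i') := by
      obtain ⟨h1, h2, h3⟩ := MinSimple.VModule.mem_zc.1 hf
      refine MinSimple.VModule.mem_zc.2 ⟨?_, fun y hy => ?_, ?_⟩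
      · rw [← BTwo.mem_cj, hcT]; exact h1
      · have h4 : c * y * c⁻¹ ∈ T := by rw [← hcT]; exact BTwo.conj_mem_cj hy
        have h5 := h2 _ h4
        calc y * (c⁻¹ * f * c) = c⁻¹ * (c * y * c⁻¹ * f) * c := by group
          _ = c⁻¹ * (f * (c * y * c⁻¹)) * c := by rw [h5]
          _ = c⁻¹ * f * c * y := by group
      · calc (c⁻¹ * f * c) ^ 2 = c⁻¹ * (f ^ 2) * c := by rw [pow_two, pow_two]; group
          _ = 1 := by rw [h3]; group
    obtain ⟨u, hu, z, e, hz⟩ := h'.split hf'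
    refine ⟨c * u * c⁻¹, ?_, c * z * c⁻¹, ?_, fun g hg => ?_⟩
    · rw [← hl] at hu
      exact (mem_normalizer_iff.1 hc u).1 hu
    · calc f = c * (c⁻¹ * f * c) * c⁻¹ := by group
        _ = c * (u * z) * c⁻¹ := by rw [e]
        _ = c * u * c⁻¹ * (c * z * c⁻¹) := by group
    · rw [BTwo.mem_cj] at hg
      have h1 := hz _ hg
      calc g * (c * z * c⁻¹) = c * (c⁻¹ * g * c * z) * c⁻¹ := by group
        _ = c * (z * (c⁻¹ * g * c)) * c⁻¹ := by rw [h1]
        _ = c * z * c⁻¹ * g := by group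
  -- `z`
  obtain ⟨a, d, ⟨haz, hag⟩, ⟨hdz, hdg⟩, ha1, hd1, had⟩ := h.exists_pair
  obtain ⟨z, hz1, hzz, hzg, hzg'⟩ : ∃ z, z ≠ 1 ∧ z ∈ zc T ∧ (∀ g ∈ grp M {i}, g * z = z * g) ∧
      ∀ g ∈ BTwo.cj c (grp M' {i'}), g * z = z * g := by
    obtain ⟨u, hu, x, ex, hx⟩ := key' a haz
    obtain ⟨u', hu', x', ex', hx'⟩ := key' d hdz
    rcases (mem_R u).1 hu with hu2 | hu2
    · rw [hu2, one_mul] at ex
      subst ex
      exact ⟨a, ha1, haz, hag, hx⟩
    rcases (mem_R u').1 hu' with hu2' | hu2'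
    · rw [hu2', one_mul] at ex'
      subst ex'
      exact ⟨d, hd1, hdz, hdg, hx'⟩
    rw [hu2] at ex
    rw [hu2'] at ex'
    refine ⟨a * d, had, mul_mem haz hdz, fun g hg => ?_, fun g hg => ?_⟩
    · have h1 := hag g hg
      have h2 := hdg g hg
      calc g * (a * d) = (g * a) * d := by group
        _ = a * (g * d) := by rw [h1]; group
        _ = a * d * g := by rw [h2]; group
    · -- `a d = x x'`
      have hr2 : r * r = 1 := sq M (line_le M i hr).1
      have hrT : ∀ y ∈ zc T, r * y = y * r := fun y hy =>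
        (MinSimple.VModule.mem_zc.1 hy).2.1 r (h.zl_le_stab i (line_le M i hr).1)
      have e1 : a * d = x * x' := by
        have hxr : x * r = r * x := by
          have h1 := hrT a haz
          rw [ex] at h1
          have h2 : r * (r * x) = r * (x * r) := by rw [h1]; group
          exact (mul_left_cancel h2).symm
        calc a * d = r * (x * r) * x' := by rw [ex, ex']; group
          _ = (r * r) * x * x' := by rw [hxr]; group
          _ = x * x' := by rw [hr2, one_mul]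
      have h1 := hx g hg
      have h2 := hx' g hg
      rw [e1]
      calc g * (x * x') = (g * x) * x' := by group
        _ = x * (g * x') := by rw [h1]; group
        _ = x * x' * g := by rw [h2]; group
  have hzT : ∀ t ∈ T, t * z = z * t := fun t ht => (MinSimple.VModule.mem_zc.1 hzz).2.1 t ht
  obtain ⟨hc1, hc2⟩ := h.cent_half hzz hz1 hzg
  have hconj : ∀ {F : Type} [Field F] [Finite F] [CharP F 2] {S : Sylow 2 G} {P : Subgroup G} {k : ℕ}
      (M : NatK F (S : Subgroup G) P (zl (S : Subgroup G) P) ⊥ k) (i : Fin k)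
      (A : Matrix.SpecialLinearGroup (Fin 2) F), ∃ g ∈ grp M {i},
        ∀ x, g * (pre M i).e x * g⁻¹ = (pre M i).e (NatPair.ap A x) := by
    intro F _ _ _ S P k M i A
    obtain ⟨g, hg, hgA⟩ := Lns.exists_lift M i A
    refine ⟨g, hg, fun x => ?_⟩
    exact ext_fac M (Lns.grp_conj_fac hg ((pre M i).e_mem x)) ((pre M i).e_mem _)
      ((hgA _ ((pre M i).e_mem x).1).trans (by rw [pre_e, pre_e]))
  have hD1 := m.mem_iInf (L := grp M {i}) (fun A => hconj M i A) hzT hzg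
  have hD2 := m.symm.mem_iInf (L := BTwo.cj c (grp M' {i'})) (fun A => by
    obtain ⟨g, hg, h1⟩ := hconj M' i' A
    refine ⟨c * g * c⁻¹, BTwo.conj_mem_cj hg, fun x => ?_⟩
    change c * g * c⁻¹ * (c * (pre M' i').e x * c⁻¹) * (c * g * c⁻¹)⁻¹ =
      c * (pre M' i').e (NatPair.ap A x) * c⁻¹
    rw [← h1]
    group) hzT hzg'
  obtain ⟨p, p', hp, hp', t⟩ := m.two
  refine t.false_of_z hr1 (by rw [hp]; exact mem_R) (by rw [card_fac, h.two]; norm_num)
    (by rw [BTwo.card_cj, card_fac, h'.two]; norm_num) hD1 hD2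
    ⟨hc1 ((line_le M i) hr), fun q hq => ?_⟩
  exact (mem_centralizer_iff.1 (hc2 hq) r ((line_le M i) hr))

end both

/-- **WrBig, `q = 2`, CASE 1, the mixed case.** -/
theorem mixTwo (K : Cls.{u}) : MixTwo K := by
  intro G _ _ S S' hH P P' hp F F' _ _ _ _ _ _ k M M' hC hC' hF hF' hfr hfr' hk i j hl _ hd hd' hne hab hab'
  have h : Sit M i := ⟨hH.ctx.char2, hp.star, hC, hF, hk, hfr, hd⟩
  have h' : Sit M' j := ⟨hH.ctx.char2, hp.star', hC', hF', hk, hfr', hd'⟩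
  refine mixed_false h h' hl hne hab ?_
  rw [hl]
  exact hab'

end Cfsg.Agent.Omega.IId.Big.Syl

end

section


/-!
# The mixed case: the side of natural factors over `F₂` (project OMEGA, II.d, SwBig; helper142 #21268 (B))

`h : Big.Syl.Sit M i` (`T = stab M i` is a Sylow 2-subgroup of `C_G(r)`, `⟨r⟩ = line M i`):

* **`side_of_sit`** : `Side (toRMod (pre M i)) r (stab M i) (grp M {i})`;
* `pair_of_sit` : `|Ω₁Z(T) ∩ C(grp M {i})| ≥ 4`, in the form needed by `mixed_false`.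
-/

set_option autoImplicit false
set_option linter.unusedSectionVars false

namespace Cfsg.Agent.Omega.IId.SwB

open Subgroup Cfsg Cfsg.Agent.ZN Cfsg.Agent.ZN.ChoiceBase
open Cfsg.Agent.Lib.SL2Mat
open Cfsg.Agent.Omega.MinPar Cfsg.Agent.Omega.FFThm Cfsg.Agent.Omega.FrameMulti
open Cfsg.Agent.Omega.Mix (RMod)
open Cfsg.Agent.Omega.IId.FourSide (pre pre_e vec_ne)
open Cfsg.Agent.Omega.IId.M4 (nmG toRMod toRMod_line)
open Cfsg.Agent.Omega.IId.BigFour (BOne stab_le_nmG grp_le_nmG pre_line)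
open Cfsg.Agent.Omega.IId.Big.Syl (Sit)

universe u

variable {G : Type u} [Group G] [Finite G] {F : Type} [Field F] [Finite F] [CharP F 2] {S : Sylow 2 G}
  {P : Subgroup G} {k : ℕ} {M : NatK F (S : Subgroup G) P (zl (S : Subgroup G) P) ⊥ k} {i : Fin k}

/-- **The natural side.** -/
theorem side_of_sit (h : Sit M i) {r : G} (hr : r ∈ line M i) (hr1 : r ≠ 1) :
    Side (toRMod (pre M i)) r (stab M i) (grp M {i}) where
  two := h.two
  line := by
    refine ⟨![1, 0], vec_ne, fun g => ?_⟩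
    rw [toRMod_line, pre_line]
    constructor
    · exact fun hg => mem_line_two M h.two hr hr1 hg
    · rintro (rfl | rfl)
      · exact one_mem _
      · exact hr
  r1 := hr1
  T2 := h.T2
  TN := stab_le_nmG h.SP
  TC := fun t ht => mem_centralizer_singleton_iff.2 (stab_comm_line M h.SP h.two hr ht)
  odd := by
    have h1 := h.odd
    rwa [h.norm_line hr hr1] at h1
  LT := (fac_le M i).trans (h.zl_le_stab i)
  DN := grp_le_nmG i
  lift := by
    intro A
    obtain ⟨g, hg, hgA⟩ := Lns.exists_lift M i A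
    refine ⟨g, hg, fun x => ?_⟩
    change g * (pre M i).e x * g⁻¹ = (pre M i).e (NatPair.ap A x)
    exact ext_fac M (Lns.grp_conj_fac hg ((pre M i).e_mem x)) ((pre M i).e_mem _)
      ((hgA _ ((pre M i).e_mem x).1).trans (by rw [pre_e, pre_e]))
  split := by
    intro f hf
    obtain ⟨u, hu, z, e, hz⟩ := h.split hf
    exact ⟨u, mem_line_two M h.two hr hr1 hu, z, e, hz⟩
  loc := fun _ hT hD => h.ot hT hD (grp_normalizes M {i} {i}) fun _ hv _ hw hv1 hw1 => exists_grp M hv hw hv1 hw1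

/-- `|Ω₁Z(T) ∩ C(grp M {i})| ≥ 4` -/
theorem pair_of_sit (h : Sit M i) : ∃ a d : G, (a ∈ zc (stab M i) ∧ ∀ g ∈ grp M {i}, g * a = a * g) ∧
    (d ∈ zc (stab M i) ∧ ∀ g ∈ grp M {i}, g * d = d * g) ∧ a ≠ 1 ∧ d ≠ 1 ∧ a * d ≠ 1 :=
  h.exists_pair

end Cfsg.Agent.Omega.IId.SwB

end

end
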